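import Cfsg.Agent.Lib.AbelianFrob.Derived
import Cfsg.Agent.Lib.Blocks.PPart
import Cfsg.Agent.Lib.KnownSimple.BurnsideAutomizer

/-!
# Abelian Sylow subgroups inverted by their automizer

The principal block when the automizer of an abelian Sylow `p`-subgroup is an inversion.
-/

set_option autoImplicit false
set_option linter.style.haveILetI false
set_option linter.unusedSectionVars false

noncomputable section

namespace CfsgLib.SmithTyrer

open Cfsg CfsgLib.Characters CfsgLib.AbelianFrob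
open scoped Classical

universe u

variable {G : Type u} [Group G] {p : ℕ}

/-- `n` inverts the abelian Sylow subgroup `P` and, with its centralizer, makes up the normalizer. -/
structure Inverted (P : Sylow p G) (n : G) : Prop where
  comm : IsMulCommutative ↥(P : Subgroup G)
  odd : p ≠ 2
  inv : ∀ x ∈ (P : Subgroup G), n * x * n⁻¹ = x⁻¹
  cases : ∀ g ∈ NP P, g ∈ CP P ∨ n⁻¹ * g ∈ CP P

variable {P : Sylow p G} {n : G}

theorem Inverted.mem_NP (h : Inverted P n) : n ∈ NP P := by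
  refine Subgroup.mem_normalizer_iff.2 fun x => ⟨fun hx => by rw [h.inv x hx]; exact inv_mem hx,
    fun hx => ?_⟩
  have h1 : x = (n * x * n⁻¹)⁻¹ := by
    have := h.inv _ (inv_mem hx)
    rw [inv_inv] at this
    have e : n * (n * x * n⁻¹)⁻¹ * n⁻¹ = n * x * n⁻¹ := this
    exact (mul_left_cancel (mul_right_cancel e)).symm
  rw [h1]
  exact inv_mem hx

variable [Finite G] [hp : Fact p.Prime]

/-- A `p`-element equal to its inverse is trivial, `p` odd. -/
theorem eq_one_of_inv_eq (hodd : p ≠ 2) {x : G} (hx : ∃ k : ℕ, orderOf x = p ^ k)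
    (h : x⁻¹ = x) : x = 1 := by
  obtain ⟨k, hk⟩ := hx
  have h2 : orderOf x ∣ 2 := orderOf_dvd_of_pow_eq_one (by rw [pow_two]; nth_rw 1 [← h]; exact inv_mul_cancel x)
  refine orderOf_eq_one_iff.1 (Nat.eq_one_of_dvd_coprimes ?_ (dvd_of_eq hk) h2)
  exact ((Nat.coprime_primes hp.out Nat.prime_two).2 hodd).pow_left k

theorem orderOf_mem_sylow {x : G} (hx : x ∈ (P : Subgroup G)) : ∃ k : ℕ, orderOf x = p ^ k := by
  obtain ⟨k, hk⟩ := IsPGroup.iff_orderOf.1 P.2 ⟨x, hx⟩
  exact ⟨k, by rw [← Subgroup.orderOf_mk x hx, hk]⟩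

theorem Inverted.not_mem_CP (h : Inverted P n) {y : G} (hy : y ∈ (P : Subgroup G)) (hy1 : y ≠ 1)
    {g : G} (hg : n⁻¹ * g ∈ CP P) : g * y * g⁻¹ = y⁻¹ ∧ g * y ≠ y * g := by
  have h1 := Subgroup.mem_centralizer_iff.1 hg y hy
  have h2 : g * y * g⁻¹ = y⁻¹ := by
    rw [← h.inv y hy]
    calc g * y * g⁻¹ = n * ((n⁻¹ * g) * y) * (n⁻¹ * g)⁻¹ * n⁻¹ := by group
      _ = n * (y * (n⁻¹ * g)) * (n⁻¹ * g)⁻¹ * n⁻¹ := by rw [h1]
      _ = _ := by group
  refine ⟨h2, fun hc => hy1 (eq_one_of_inv_eq h.odd (orderOf_mem_sylow hy) ?_)⟩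
  rw [← h2, hc, mul_inv_cancel_right]

theorem Inverted.fpf (h : Inverted P n) : Fpf P := by
  intro y hy hy1
  refine le_antisymm ?_ (le_inf ?_ (CP_le_NP P))
  · rintro g ⟨hgy, hgN⟩
    rcases h.cases g hgN with hg | hg
    · exact hg
    · exact absurd (Subgroup.mem_centralizer_singleton_iff.1 hgy) (h.not_mem_CP hy hy1 hg).2
  · intro g hg
    rw [Subgroup.mem_centralizer_singleton_iff]
    exact (Subgroup.mem_centralizer_iff.1 hg y hy).symm

theorem Inverted.relIndex_eq (h : Inverted P n) (hP : (P : Subgroup G) ≠ ⊥) :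
    (CP P).relIndex (NP P) = 2 := by
  obtain ⟨y, hy, hy1⟩ : ∃ y ∈ (P : Subgroup G), y ≠ 1 := by
    by_contra hc
    push Not at hc
    exact hP ((Subgroup.eq_bot_iff_forall _).2 hc)
  rw [Subgroup.relIndex, Subgroup.index_eq_two_iff]
  refine ⟨⟨n⁻¹, inv_mem h.mem_NP⟩, fun b => ?_⟩
  simp only [Subgroup.mem_subgroupOf, Subgroup.coe_mul]
  rcases h.cases b b.2 with hb | hb
  · refine Or.inr ⟨hb, fun hc => ?_⟩
    have hn : n⁻¹ * (1 : G) ∈ CP P := by
      rw [mul_one]
      have : (b : G) * n⁻¹ * 1 ∈ CP P := by rwa [mul_one]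
      have h' := mul_mem (inv_mem hb) hc
      simpa using h'
    have := (h.not_mem_CP hy hy1 hn).1
    rw [one_mul, inv_one, mul_one] at this
    exact hy1 (eq_one_of_inv_eq h.odd (orderOf_mem_sylow hy) this.symm)
  · refine Or.inl ⟨?_, fun hc => ?_⟩
    · have hbn : ((b : G) * n⁻¹) = n * (n⁻¹ * b) * n⁻¹ := by group
      rw [hbn]
      have : NP P ≤ Subgroup.normalizer ((CP P : Subgroup G) : Set G) := by
        intro g hg
        refine Subgroup.mem_normalizer_iff.2 fun x => ?_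
        have key : ∀ a ∈ NP P, ∀ c ∈ CP P, a * c * a⁻¹ ∈ CP P := by
          intro a ha c hc'
          refine Subgroup.mem_centralizer_iff.2 fun z hz => ?_
          have hz' : a⁻¹ * z * a ∈ (P : Subgroup G) := by
            have := (Subgroup.mem_normalizer_iff.1 (inv_mem ha) z).1 hz
            rwa [inv_inv] at this
          have hcz := Subgroup.mem_centralizer_iff.1 hc' _ hz'
          calc z * (a * c * a⁻¹) = a * ((a⁻¹ * z * a) * c) * a⁻¹ := by group
            _ = a * (c * (a⁻¹ * z * a)) * a⁻¹ := by rw [hcz]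
            _ = a * c * a⁻¹ * z := by group
        refine ⟨key g hg x, fun hx => ?_⟩
        have := key g⁻¹ (inv_mem hg) _ hx
        simpa [mul_assoc] using this
      exact (Subgroup.mem_normalizer_iff.1 (this h.mem_NP) _).1 hb
    · exact (h.not_mem_CP hy hy1 hb).2 (Subgroup.mem_centralizer_iff.1 hc y hy).symm

variable [Fintype G] {M : Ideal AlgInt}

/-- The principal block of a group with an inverted Sylow subgroup: a character `Ψ` with a sign `s`
such that `1 - s Ψ` vanishes on the singular elements and `1, Ψ` span the block on regular elements. -/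
structure PairData (p : ℕ) (M : Ideal AlgInt) (Ψ : IrrCharacter G) (s : ℤ) : Prop where
  sign : s * s = 1
  mem : Ψ ∈ principalBlock M G
  ne_principal : Ψ ≠ principalIrr G
  vanish : ∀ g : G, p ∣ orderOf g → (s : ℂ) * (Ψ : G → ℂ) g = 1
  span : ∀ χ ∈ principalBlock M G, ∃ a b : ℂ, ∀ g : G, ¬ p ∣ orderOf g →
    (χ : G → ℂ) g = a + b * (Ψ : G → ℂ) g

theorem Inverted.exists_pairData (h : Inverted P n) (hM : IsPModular p M)
    (hP9 : 9 ≤ Nat.card ↥(P : Subgroup G)) :
    ∃ (Ψ : IrrCharacter G) (s : ℤ), PairData p M Ψ s := by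
  have hfrob := h.fpf
  have hab := h.comm
  have hPne : (P : Subgroup G) ≠ ⊥ := fun e => by rw [e, Subgroup.card_bot] at hP9; omega
  have hCN := h.relIndex_eq hPne
  have hm : (CP P).relIndex (NP P) + 1 < Nat.card ↥(P : Subgroup G) := by omega
  obtain ⟨μ, A, d, δ, S⟩ := exists_struct P hab hfrob hM hm
  obtain ⟨h1mem, hA1⟩ := S.principal_mem_rest hab hfrob hM hm
  have hexc := S.card_exc_mul hab hfrob
  rw [hCN] at hexc
  have hexc4 : 4 ≤ S.exc.card := by omega
  obtain ⟨χ₀, hχ₀⟩ := Finset.card_pos.1 (show 0 < S.exc.card by omega)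
  obtain ⟨ψ₀, hψ₀, -⟩ := S.mem_exc.1 hχ₀
  have hnorm := S.norm_eq hab hfrob hM hψ₀
  rw [hCN] at hnorm
  push_cast at hnorm
  have hone : 1 ≤ ∑ χ ∈ S.rest, A χ ^ 2 := by
    refine le_trans (le_of_eq ?_)
      (Finset.single_le_sum (fun χ _ => sq_nonneg (A χ)) h1mem)
    rw [hA1, one_pow]
  have hd : d = 0 := by
    by_contra hd
    have h1 : (1 : ℤ) ≤ d ^ 2 := by
      have := sq_pos_of_ne_zero hd
      omega
    have h2 : (4 : ℤ) ≤ S.exc.card := by exact_mod_cast hexc4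
    have h3 : (3 : ℤ) ≤ ((S.exc.card : ℤ) - 1) * d ^ 2 := by nlinarith
    nlinarith [sq_nonneg (d - δ)]
  subst hd
  have hsum : ∑ χ ∈ S.rest, A χ ^ 2 = 2 := by
    rw [zero_sub, neg_sq, pow_two δ, S.delta_sq] at hnorm
    linear_combination hnorm
  rw [← Finset.add_sum_erase _ _ h1mem, hA1, one_pow] at hsum
  have hsum' : ∑ χ ∈ S.rest.erase (principalIrr G), A χ ^ 2 = 1 := by linarith
  have hge : ∀ χ ∈ S.rest, 1 ≤ A χ ^ 2 := fun χ hχ => by
    have := sq_pos_of_ne_zero (S.A_ne_zero hab hfrob hM (by omega) hχ)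
    omega
  have hcard : (S.rest.erase (principalIrr G)).card = 1 := by
    have hle : ((S.rest.erase (principalIrr G)).card : ℤ) ≤ 1 := by
      rw [← hsum', Finset.card_eq_sum_ones, Nat.cast_sum]
      exact Finset.sum_le_sum fun χ hχ => by
        push_cast; exact hge χ (Finset.mem_erase.1 hχ).2
    have hne : (S.rest.erase (principalIrr G)).card ≠ 0 := fun e => by
      rw [Finset.card_eq_zero.1 e, Finset.sum_empty] at hsum'
      exact zero_ne_one hsum'
    omega
  obtain ⟨Ψ, hΨ⟩ := Finset.card_eq_one.1 hcard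
  have hΨmem : Ψ ∈ S.rest.erase (principalIrr G) := by rw [hΨ]; exact Finset.mem_singleton_self _
  obtain ⟨hΨne, hΨrest⟩ := Finset.mem_erase.1 hΨmem
  have hAΨ : A Ψ ^ 2 = 1 := by rwa [hΨ, Finset.sum_singleton] at hsum'
  have hrest : ∀ χ ∈ S.rest, χ = principalIrr G ∨ χ = Ψ := fun χ hχ => by
    by_cases e : χ = principalIrr G
    · exact Or.inl e
    · exact Or.inr (Finset.mem_singleton.1 (hΨ ▸ Finset.mem_erase.2 ⟨e, hχ⟩))
  refine ⟨Ψ, A Ψ, by rw [← pow_two, hAΨ], (S.mem_rest.1 hΨrest).1, hΨne, fun g hg => ?_, fun χ hχ => ?_⟩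
  · obtain ⟨x, hx⟩ := CfsgLib.Blocks.exists_isPPart hp.out g
    obtain ⟨y, hxy, hc, ⟨k, hk⟩, hy⟩ := hx
    have hx1 : x ≠ 1 := fun e => hy (by rw [e, one_mul] at hxy; rw [hxy]; exact hg)
    obtain ⟨c, hc'⟩ := CfsgLib.BurnsideAutomizer.exists_conj_mem_sylow P (x := x) (k := k)
      (by rw [← hk]; exact pow_orderOf_eq_one x)
    have hpart : IsPPart p (c * g * c⁻¹) (c * x * c⁻¹) := by
      refine ⟨c * y * c⁻¹, by rw [← hxy]; group, ?_, ⟨k, ?_⟩, ?_⟩
      · exact hc.map (MulAut.conj c).toMonoidHom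
      · rw [← MulAut.conj_apply, MulEquiv.orderOf_eq, hk]
      · rwa [← MulAut.conj_apply, MulEquiv.orderOf_eq]
    have hval := S.value_rest hab hfrob hM hΨrest hpart hc' (fun e => hx1 (by
      rwa [← MulAut.conj_apply, MulEquiv.map_eq_one_iff] at e))
    rw [irr_isClassFunction Ψ] at hval
    rw [hval, ← Int.cast_mul, ← pow_two, hAΨ, Int.cast_one]
  · by_cases he : χ ∈ S.exc
    · obtain ⟨ψ, hψ, rfl⟩ := S.mem_exc.1 he
      refine ⟨(δ : ℂ), (δ : ℂ) * (A Ψ : ℂ), fun g hg => ?_⟩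
      have hrel := S.regular_rel hM hψ hg
      rw [← Finset.add_sum_erase _ _ h1mem, hΨ, Finset.sum_singleton, hA1, principalIrr_apply] at hrel
      have hδ : (δ : ℂ) * δ = 1 := by exact_mod_cast S.delta_sq
      push_cast at hrel
      linear_combination (-(δ : ℂ)) * hrel - (μ ψ : G → ℂ) g * hδ
    · rcases hrest χ (S.mem_rest.2 ⟨hχ, he⟩) with rfl | rfl
      · exact ⟨1, 0, fun g _ => by simp⟩
      · exact ⟨0, 1, fun g _ => by simp⟩

end CfsgLib.SmithTyrer
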