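import Cfsg.Agent.Lib.SmithTyrer.Setup
import Cfsg.Agent.Lib.Blk7.CentralQuotient
import Cfsg.Agent.Lib.Blocks.ClassCount
import Cfsg.Agent.Lib.BlockCover.CentralDefectBlock

/-!
# A central extension of order `p` against the two-character data

If `G = E ⧸ N` has the data `1, Ψ` and `N` has order `p` inside `Z(E) ∩ E'`, the lift of `1 - s Ψ`
is a combination of exactly two faithful characters, and counting products of two involutions
gives a contradiction unless `Ψ` is linear or trivial on the involution.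
-/

set_option autoImplicit false
set_option linter.style.haveILetI false
set_option linter.unusedSectionVars false

noncomputable section

namespace CfsgLib.SmithTyrer

open Cfsg CfsgLib.Characters CfsgLib.CharCorr CfsgLib.CentralQuot
open scoped ComplexConjugate Classical

universe u

variable {E : Type u} [Group E] [Fintype E]

/-- A class function summed over the products of two conjugates of `t`. -/
theorem sum_mul_cls (t : E) {f : E → ℂ} (hf : IsClassFunction E f) :
    ∑ u ∈ ClassCount.cls t, ∑ v ∈ ClassCount.cls t, f (u * v) =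
      ((ClassCount.cls t).card : ℂ) ^ 2 * ∑ χ : IrrCharacter E,
        classInner f (χ : E → ℂ) * ((χ : E → ℂ) t ^ 2 / (χ : E → ℂ) 1) := by
  conv_lhs => rw [classFunction_eq_sum hf]
  simp only [Finset.sum_apply, Pi.smul_apply, smul_eq_mul]
  rw [Finset.sum_congr rfl fun u _ => Finset.sum_comm, Finset.sum_comm, Finset.mul_sum]
  refine Finset.sum_congr rfl fun χ _ => ?_
  simp only [← Finset.mul_sum]
  have h := ClassCount.sum_char_mul χ t t 1
  simp only [mul_one] at h
  rw [h, centralChar, ClassCount.card_cls]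
  have := irr_one_ne_zero χ
  field_simp

/-- The algebra of the final comparison. -/
theorem algebra_step {X V B₁ B₂ : ℂ} (hX0 : X ≠ 0) (hX1 : X ≠ 1) (hX2 : X ≠ 2) (hV : V ≠ X)
    (hd1 : 1 + B₁ * X ≠ 0) (hd2 : 1 + B₂ * X ≠ 0) (hB : B₁ + B₂ = -1)
    (h : (1 + B₁ * V) ^ 2 / (1 + B₁ * X) + (1 + B₂ * V) ^ 2 / (1 + B₂ * X) =
      1 - (V - 1) ^ 2 / (X - 1)) :
    B₁ = 0 ∨ B₂ = 0 := by
  have hX1' : X - 1 ≠ 0 := sub_ne_zero.2 hX1
  rw [div_add_div _ _ hd1 hd2, one_sub_div hX1', div_eq_div_iff (mul_ne_zero hd1 hd2) hX1'] at h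
  obtain rfl : B₂ = -1 - B₁ := by linear_combination hB
  have key : (2 - X) * (X - V) ^ 2 * (B₁ * (-1 - B₁)) = 0 := by linear_combination h
  rcases mul_eq_zero.1 key with h1 | h1
  · exfalso
    rcases mul_eq_zero.1 h1 with h2 | h2
    · exact hX2 (by linear_combination -h2)
    · exact hV (by linear_combination -(pow_eq_zero_iff two_ne_zero).1 h2)
  · exact mul_eq_zero.1 h1

variable {p : ℕ} [hp : Fact p.Prime] {M : Ideal AlgInt} (N : Subgroup E) [hN : N.Normal]
  [Fintype (E ⧸ N)] (hNp : IsPGroup p N) (hNc : N ≤ Subgroup.center E)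

include hNp hNc

theorem lift_one : lift N p (1 : E ⧸ N) = 1 := by
  have h := lift_mk N hNp hNc (1 : E) (p := p)
  rwa [QuotientGroup.mk_one, one_pow] at h

theorem lift_inv (q : E ⧸ N) : lift N p q⁻¹ = (lift N p q)⁻¹ := by
  obtain ⟨g, rfl⟩ := QuotientGroup.mk_surjective q
  rw [← QuotientGroup.mk_inv, lift_mk N hNp hNc, lift_mk N hNp hNc, inv_pow]

theorem lift_mul_self {q : E ⧸ N} (hq : q * q = 1) : lift N p q * lift N p q = 1 := by
  obtain ⟨g, rfl⟩ := QuotientGroup.mk_surjective q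
  rw [lift_mk N hNp hNc, ← mul_pow_two_eq g]
  have h := lift_mk N hNp hNc (g * g) (p := p)
  rw [QuotientGroup.mk_mul, hq, lift_one N hNp hNc] at h
  exact h.symm
where
  mul_pow_two_eq (g : E) : (g * g) ^ regExp E p = g ^ regExp E p * g ^ regExp E p :=
    (Commute.refl g).mul_pow _

/-- The phase of an element whose image is regular. -/
def phase (ω : ↥N →* ℂˣ) (g : E) : ℂ :=
  if h : g * (lift N p (g : E ⧸ N))⁻¹ ∈ N then (ω ⟨_, h⟩ : ℂ) else 0

omit hNp hNc in
theorem mul_lift_inv_mem {g : E} (hg : ¬ p ∣ orderOf (g : E ⧸ N)) :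
    g * (lift N p (g : E ⧸ N))⁻¹ ∈ N := by
  rw [← QuotientGroup.eq_one_iff, QuotientGroup.mk_mul, QuotientGroup.mk_inv, mk_lift N hg,
    mul_inv_cancel]

theorem phase_mul (ω : ↥N →* ℂˣ) {q : E ⧸ N} (hq : ¬ p ∣ orderOf q) (m : ↥N) :
    phase N (p := p) ω ((m : E) * lift N p q) = ω m := by
  have he : (((m : E) * lift N p q : E) : E ⧸ N) = q := by
    rw [QuotientGroup.mk_mul, (QuotientGroup.eq_one_iff _).2 m.2, one_mul, mk_lift N hq]
  have hm : (m : E) * lift N p q * (lift N p (((m : E) * lift N p q : E) : E ⧸ N))⁻¹ = m := by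
    rw [he, mul_inv_cancel_right]
  rw [phase, dif_pos (by rw [hm]; exact m.2)]
  exact congrArg (fun z : ↥N => (ω z : ℂ)) (Subtype.ext hm)

omit hNp hNc in
theorem eq_mul_lift {g : E} (hg : ¬ p ∣ orderOf (g : E ⧸ N)) :
    ∃ m : ↥N, g = (m : E) * lift N p (g : E ⧸ N) :=
  ⟨⟨_, mul_lift_inv_mem N hg⟩, (inv_mul_cancel_right _ _).symm⟩

theorem regular_conj (q r : E ⧸ N) : p ∣ orderOf (r * q * r⁻¹) ↔ p ∣ orderOf q := by
  rw [← MulAut.conj_apply, MulEquiv.orderOf_eq]

variable {Φ : E ⧸ N → ℂ} (hΦ : ∀ q, p ∣ orderOf q → Φ q = 0) (ω : ↥N →* ℂˣ)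

include hΦ

theorem liftFun_class (hcl : IsClassFunction (E ⧸ N) Φ) :
    IsClassFunction E (fun g => phase N (p := p) ω g * Φ (g : E ⧸ N)) := by
  intro g w
  simp only [QuotientGroup.mk_mul, QuotientGroup.mk_inv, hcl (g : E ⧸ N) (w : E ⧸ N)]
  by_cases hq : p ∣ orderOf (g : E ⧸ N)
  · rw [hΦ _ hq, mul_zero, mul_zero]
  · congr 1
    obtain ⟨m, hm⟩ := eq_mul_lift N hq
    have hc : w * g * w⁻¹ = (m : E) * lift N p ((w : E ⧸ N) * (g : E ⧸ N) * (w : E ⧸ N)⁻¹) := by
      rw [lift_conj N hNp hNc]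
      conv_lhs => rw [hm]
      rw [← mul_assoc, Subgroup.mem_center_iff.1 (hNc m.2) w]
      group
    conv_rhs => rw [hm, phase_mul N hNp hNc ω hq]
    rw [hc, phase_mul N hNp hNc ω (by rwa [regular_conj N hNp hNc])]

theorem liftFun_mul (m : ↥N) (g : E) :
    phase N (p := p) ω ((m : E) * g) * Φ (((m : E) * g : E) : E ⧸ N) =
      ω m * (phase N (p := p) ω g * Φ (g : E ⧸ N)) := by
  rw [QuotientGroup.mk_mul, (QuotientGroup.eq_one_iff _).2 m.2, one_mul]
  by_cases hq : p ∣ orderOf (g : E ⧸ N)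
  · rw [hΦ _ hq, mul_zero, mul_zero, mul_zero]
  · obtain ⟨k, hk⟩ := eq_mul_lift N hq
    conv_lhs => rw [hk, ← mul_assoc, ← Subgroup.coe_mul, phase_mul N hNp hNc ω hq]
    conv_rhs => rw [hk, phase_mul N hNp hNc ω hq]
    rw [map_mul, Units.val_mul]
    ring

/-- The coefficient of the lift at an irreducible character of `E`. -/
theorem liftFun_inner (η : IrrCharacter E) :
    (classInner (fun g => phase N (p := p) ω g * Φ (g : E ⧸ N)) (η : E → ℂ) = 0 ∨
      ∀ m : ↥N, (η : E → ℂ) m = ω m * (η : E → ℂ) 1) ∧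
    ((∀ m : ↥N, (η : E → ℂ) m = ω m * (η : E → ℂ) 1) →
      classInner (fun g => phase N (p := p) ω g * Φ (g : E ⧸ N)) (η : E → ℂ) =
        classInner Φ (fun q => (η : E → ℂ) (lift N p q))) := by
  set F : E → ℂ := fun g => phase N (p := p) ω g * Φ (g : E ⧸ N) with hF
  have hcen : ∀ (m : ↥N) (g : E), (η : E → ℂ) ((m : E) * g) =
      (η : E → ℂ) m / (η : E → ℂ) 1 * (η : E → ℂ) g := fun m g =>
    CfsgLib.CentralDefect.apply_central_mul η (hNc m.2) g
  constructor
  · by_contra hc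
    push Not at hc
    obtain ⟨h0, m, hm⟩ := hc
    apply h0
    set r := (η : E → ℂ) m / (η : E → ℂ) 1 with hr
    have hsum : classInner F (η : E → ℂ) = (ω m : ℂ) * conj r * classInner F (η : E → ℂ) := by
      conv_lhs => rw [classInner, ← Equiv.sum_comp (Equiv.mulLeft (m : E))]
      rw [classInner, mul_left_comm, Finset.mul_sum, Finset.mul_sum, Finset.mul_sum]
      refine Finset.sum_congr rfl fun g _ => ?_
      simp only [Equiv.coe_mulLeft, hcen, map_mul, hF]
      rw [liftFun_mul N hNp hNc hΦ ω m g]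
      ring
    have hfac : ((1 : ℂ) - (ω m : ℂ) * conj r) * classInner F (η : E → ℂ) = 0 := by
      linear_combination hsum
    refine (mul_eq_zero.1 hfac).resolve_left fun h1 => hm ?_
    have hnorm : (ω m : ℂ) * conj (ω m : ℂ) = 1 := by
      have hfin : IsOfFinOrder (ω m : ℂ) := by
        rw [Units.isOfFinOrder_val]
        exact ω.isOfFinOrder (isOfFinOrder_of_finite m)
      rw [Complex.mul_conj, Complex.normSq_eq_norm_sq, hfin.norm_eq_one]
      simp
    have hr1 : r = (ω m : ℂ) := by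
      have h2 : conj r = conj (ω m : ℂ) := by
        calc conj r = conj r * ((ω m : ℂ) * conj (ω m : ℂ)) := by rw [hnorm, mul_one]
          _ = ((ω m : ℂ) * conj r) * conj (ω m : ℂ) := by ring
          _ = conj (ω m : ℂ) := by rw [← (sub_eq_zero.1 h1), one_mul]
      exact (starRingEnd ℂ).injective h2
    rw [← hr1, hr, div_mul_cancel₀ _ (irr_one_ne_zero η)]
  · intro hlam
    have hval : ∀ (m : ↥N) (g : E), (η : E → ℂ) ((m : E) * g) = ω m * (η : E → ℂ) g := fun m g => by
      rw [hcen, hlam, mul_div_assoc, div_self (irr_one_ne_zero η), mul_one]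
    have hfib : ∀ q : E ⧸ N, ∑ g ∈ Finset.univ.filter (fun g : E => (g : E ⧸ N) = q),
        F g * conj ((η : E → ℂ) g) =
        (Nat.card N : ℂ) * (Φ q * conj ((η : E → ℂ) (lift N p q))) := by
      intro q
      by_cases hq : p ∣ orderOf q
      · rw [hΦ q hq, zero_mul, mul_zero]
        refine Finset.sum_eq_zero fun g hg => ?_
        simp only [hF, (Finset.mem_filter.1 hg).2, hΦ q hq, mul_zero, zero_mul]
      · rw [Nat.card_eq_fintype_card, ← Finset.card_univ, ← nsmul_eq_mul, ← Finset.sum_const]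
        refine Finset.sum_bij' (fun g hg => (⟨g * (lift N p q)⁻¹, by
            rw [← (Finset.mem_filter.1 hg).2]
            exact mul_lift_inv_mem N (by rwa [(Finset.mem_filter.1 hg).2])⟩ : ↥N))
          (fun m _ => (m : E) * lift N p q) (fun g hg => Finset.mem_univ _)
          (fun m _ => Finset.mem_filter.2 ⟨Finset.mem_univ _, by
            rw [QuotientGroup.mk_mul, (QuotientGroup.eq_one_iff _).2 m.2, one_mul, mk_lift N hq]⟩)
          (fun g _ => inv_mul_cancel_right _ _)
          (fun m _ => Subtype.ext (mul_inv_cancel_right _ _)) ?_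
        intro g hg
        have hgq := (Finset.mem_filter.1 hg).2
        obtain ⟨m, hm⟩ := eq_mul_lift N (g := g) (by rwa [hgq] : ¬ p ∣ orderOf (g : E ⧸ N))
        rw [hgq] at hm
        simp only [hF, hgq]
        rw [hm, phase_mul N hNp hNc ω hq, hval, map_mul]
        have hnorm : (ω m : ℂ) * conj (ω m : ℂ) = 1 := by
          have hfin : IsOfFinOrder (ω m : ℂ) := by
            rw [Units.isOfFinOrder_val]
            exact ω.isOfFinOrder (isOfFinOrder_of_finite m)
          rw [Complex.mul_conj, Complex.normSq_eq_norm_sq, hfin.norm_eq_one]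
          simp
        linear_combination (Φ q * conj ((η : E → ℂ) (lift N p q))) * hnorm
    rw [classInner, classInner, ← Finset.sum_fiberwise Finset.univ (fun g : E => (g : E ⧸ N)),
      Finset.sum_congr rfl fun q _ => hfib q, ← Finset.mul_sum,
      Subgroup.card_eq_card_quotient_mul_card_subgroup N, Nat.cast_mul, mul_inv, mul_assoc,
      inv_mul_cancel_left₀ (Nat.cast_ne_zero.2 Nat.card_pos.ne')]

/-- The norm of the lift. -/
theorem liftFun_norm :
    classInner (fun g => phase N (p := p) ω g * Φ (g : E ⧸ N))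
      (fun g => phase N (p := p) ω g * Φ (g : E ⧸ N)) = classInner Φ Φ := by
  rw [← CharCorrQ.classInner_comp_surjective (QuotientGroup.mk' N) (QuotientGroup.mk'_surjective N)]
  simp only [classInner, QuotientGroup.mk'_apply]
  congr 1
  refine Finset.sum_congr rfl fun g _ => ?_
  by_cases hq : p ∣ orderOf (g : E ⧸ N)
  · simp [hΦ _ hq]
  · obtain ⟨m, hm⟩ := eq_mul_lift N hq
    have hph : phase N (p := p) ω g = ω m := by rw [hm, phase_mul N hNp hNc ω hq]
    have hfin : IsOfFinOrder (ω m : ℂ) := by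
      rw [Units.isOfFinOrder_val]
      exact ω.isOfFinOrder (isOfFinOrder_of_finite m)
    have hnorm : (ω m : ℂ) * conj (ω m : ℂ) = 1 := by
      rw [Complex.mul_conj, Complex.normSq_eq_norm_sq, hfin.norm_eq_one]
      simp
    rw [hph, map_mul]
    linear_combination (Φ (g : E ⧸ N) * conj (Φ (g : E ⧸ N))) * hnorm

/-- The lift summed over products of two conjugates of a lifted involution. -/
theorem liftFun_cls (hp2 : p ≠ 2) {t : E ⧸ N} (ht : orderOf t = 2) :
    (ClassCount.cls (lift N p t)).card = (ClassCount.cls t).card ∧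
    ∑ u ∈ ClassCount.cls (lift N p t), ∑ v ∈ ClassCount.cls (lift N p t),
      phase N (p := p) ω (u * v) * Φ ((u * v : E) : E ⧸ N) =
    ∑ u ∈ ClassCount.cls t, ∑ v ∈ ClassCount.cls t, Φ (u * v) := by
  have htreg : ¬ p ∣ orderOf t := by
    rw [ht]; exact fun h => hp2 ((Nat.prime_dvd_prime_iff_eq hp.out Nat.prime_two).1 h)
  have htt : t * t = 1 := by rw [← pow_two, ← ht, pow_orderOf_eq_one]
  have hll := lift_mul_self N hNp hNc htt
  have hbar : ∀ u ∈ ClassCount.cls (lift N p t), (u : E ⧸ N) ∈ ClassCount.cls t ∧ u * u = 1 := by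
    intro u hu
    obtain ⟨w, rfl⟩ := isConj_iff.1 (ClassCount.mem_cls.1 hu)
    refine ⟨ClassCount.mem_cls.2 (isConj_iff.2 ⟨w, ?_⟩), ?_⟩
    · rw [QuotientGroup.mk_mul, QuotientGroup.mk_mul, QuotientGroup.mk_inv, mk_lift N htreg]
    · rw [show w * lift N p t * w⁻¹ * (w * lift N p t * w⁻¹) =
        w * (lift N p t * lift N p t) * w⁻¹ by group, hll, mul_one, mul_inv_cancel]
  have hinj : Set.InjOn (fun u : E => (u : E ⧸ N)) (ClassCount.cls (lift N p t) : Set E) := by
    intro u hu v hv huv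
    have hm : u⁻¹ * v ∈ N := QuotientGroup.eq.1 huv
    set m := u⁻¹ * v with hmdef
    have hu2 := (hbar u (Finset.mem_coe.1 hu)).2
    have hv2 := (hbar v (Finset.mem_coe.1 hv)).2
    have hv' : v = u * m := by rw [hmdef, mul_inv_cancel_left]
    have hm2 : m * m = 1 := by
      have hc := Subgroup.mem_center_iff.1 (hNc hm) u
      calc m * m = u * u * (m * m) := by rw [hu2, one_mul]
        _ = u * (u * m) * m := by group
        _ = u * (m * u) * m := by rw [hc]
        _ = v * v := by rw [hv']; group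
        _ = 1 := hv2
    have hm1 : m = 1 := by
      obtain ⟨k, hk⟩ := IsPGroup.iff_orderOf.1 hNp ⟨m, hm⟩
      refine eq_one_of_inv_eq hp2 ⟨k, by rw [← Subgroup.orderOf_mk m hm, hk]⟩ ?_
      exact inv_eq_of_mul_eq_one_right hm2
    rw [hv', hm1, mul_one]
  have himg : (ClassCount.cls (lift N p t)).image (fun u : E => (u : E ⧸ N)) = ClassCount.cls t := by
    refine Finset.Subset.antisymm (Finset.image_subset_iff.2 fun u hu => (hbar u hu).1) fun q hq => ?_
    obtain ⟨r, rfl⟩ := isConj_iff.1 (ClassCount.mem_cls.1 hq)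
    obtain ⟨w, rfl⟩ := QuotientGroup.mk_surjective r
    refine Finset.mem_image.2 ⟨w * lift N p t * w⁻¹, ClassCount.mem_cls.2 (isConj_iff.2 ⟨w, rfl⟩), ?_⟩
    rw [QuotientGroup.mk_mul, QuotientGroup.mk_mul, QuotientGroup.mk_inv, mk_lift N htreg]
  refine ⟨by rw [← himg, Finset.card_image_of_injOn hinj], ?_⟩
  rw [← himg, Finset.sum_image hinj]
  refine Finset.sum_congr rfl fun u hu => ?_
  rw [Finset.sum_image hinj]
  refine Finset.sum_congr rfl fun v hv => ?_
  rw [QuotientGroup.mk_mul]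
  by_cases hq : p ∣ orderOf ((u : E ⧸ N) * (v : E ⧸ N))
  · rw [hΦ _ hq, mul_zero]
  · suffices h1 : phase N (p := p) ω (u * v) = 1 by rw [h1, one_mul]
    have hu2 := (hbar u hu).2
    have hv2 := (hbar v hv).2
    set q := (u : E ⧸ N) * (v : E ⧸ N) with hqdef
    obtain ⟨m, hm⟩ := eq_mul_lift N (g := u * v) (by rwa [QuotientGroup.mk_mul, ← hqdef])
    rw [QuotientGroup.mk_mul, ← hqdef] at hm
    have hinvq : (u : E ⧸ N) * q * (u : E ⧸ N)⁻¹ = q⁻¹ := by
      rw [hqdef, ← QuotientGroup.mk_mul, ← QuotientGroup.mk_mul, ← QuotientGroup.mk_inv,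
        ← QuotientGroup.mk_mul, ← QuotientGroup.mk_inv, mul_inv_rev,
        inv_eq_of_mul_eq_one_right hu2, inv_eq_of_mul_eq_one_right hv2]
      rw [← mul_assoc, hu2, one_mul]
    have hl := lift_conj N hNp hNc q u
    rw [hinvq, lift_inv N hNp hNc] at hl
    have h3 : (m : E) = (m : E)⁻¹ := by
      have h4 : u * (u * v) * u⁻¹ = (u * v)⁻¹ := by
        rw [mul_inv_rev, inv_eq_of_mul_eq_one_right hu2, inv_eq_of_mul_eq_one_right hv2,
          ← mul_assoc, hu2, one_mul]
      rw [hm] at h4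
      rw [show u * ((m : E) * lift N p q) * u⁻¹ = (m : E) * (u * lift N p q * u⁻¹) by
        rw [← mul_assoc, Subgroup.mem_center_iff.1 (hNc m.2) u]; group, ← hl, mul_inv_rev,
        Subgroup.mem_center_iff.1 (inv_mem (hNc m.2)) (lift N p q)⁻¹] at h4
      exact mul_right_cancel h4
    have hm1 : (m : E) = 1 := by
      obtain ⟨k, hk⟩ := IsPGroup.iff_orderOf.1 hNp m
      exact eq_one_of_inv_eq hp2 ⟨k, by rw [Subgroup.orderOf_coe, hk]⟩ h3.symm
    rw [hm, phase_mul N hNp hNc ω hq, show m = 1 from Subtype.ext hm1, map_one, Units.val_one]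

omit hΦ

/-- A member of the principal block at the lifts is a member of the principal block below. -/
theorem exists_span {Ψ : IrrCharacter (E ⧸ N)} {s : ℤ} (D : PairData p M Ψ s) (hM : IsPModular p M)
    {η : IrrCharacter E} (hη : η ∈ principalBlock M E) :
    ∃ a b : ℂ, ∀ q : E ⧸ N, ¬ p ∣ orderOf q →
      (η : E → ℂ) (lift N p q) = a + b * (Ψ : E ⧸ N → ℂ) q := by
  obtain ⟨z, hz⟩ := exists_int_coeff N hNp hNc hM (CfsgLib.Blocks.isPBlock_principalBlock M) hη
  have hin : Chars17.infl N (principalIrr (E ⧸ N)) = principalIrr E := Subtype.ext (funext fun _ => rfl)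
  have hmem : ∀ π ∈ CfsgLib.Contribution.members (quotBlock N (principalBlock M E)),
      π ∈ principalBlock M (E ⧸ N) := by
    intro π hπ
    have h : SameBlock M (Chars17.infl N (principalIrr (E ⧸ N)) : E → ℂ) (Chars17.infl N π : E → ℂ) := by
      rw [hin]
      exact (CfsgLib.Contribution.mem_members.1 hπ :)
    exact sameBlock_quot N hNp hNc hM h
  have hab : ∀ π : IrrCharacter (E ⧸ N), ∃ a b : ℂ, π ∈ principalBlock M (E ⧸ N) →
      ∀ q, ¬ p ∣ orderOf q → (π : E ⧸ N → ℂ) q = a + b * (Ψ : E ⧸ N → ℂ) q := by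
    intro π
    by_cases h : π ∈ principalBlock M (E ⧸ N)
    · obtain ⟨a, b, hh⟩ := D.span π h
      exact ⟨a, b, fun _ => hh⟩
    · exact ⟨0, 0, fun h' => absurd h' h⟩
  choose a b hab using hab
  refine ⟨∑ π ∈ CfsgLib.Contribution.members (quotBlock N (principalBlock M E)), (z π : ℂ) * a π,
    ∑ π ∈ CfsgLib.Contribution.members (quotBlock N (principalBlock M E)), (z π : ℂ) * b π, fun q hq => ?_⟩
  rw [hz _ (regular_lift N q), mk_lift N hq, Finset.sum_mul, ← Finset.sum_add_distrib]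
  refine Finset.sum_congr rfl fun π hπ => ?_
  rw [hab π (hmem π hπ) q hq]
  ring

/-- The main contradiction. -/
theorem no_extension (hcard : Nat.card N = p) (hNd : N ≤ commutator E) (hp2 : p ≠ 2)
    (hM : IsPModular p M) {Ψ : IrrCharacter (E ⧸ N)} {s : ℤ} (D : PairData p M Ψ s) {t : E ⧸ N}
    (ht : orderOf t = 2) (h1 : (Ψ : E ⧸ N → ℂ) 1 ≠ 1)
    (hts : (Ψ : E ⧸ N → ℂ) t ≠ (Ψ : E ⧸ N → ℂ) 1) : False := by
  -- a faithful linear character of `N`
  obtain ⟨ω, m₀, hm₀⟩ : ∃ (ω : ↥N →* ℂˣ) (m₀ : ↥N), ω m₀ ≠ 1 := by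
    haveI : IsCyclic ↥N := isCyclic_of_prime_card hcard
    letI : CommGroup ↥N := IsCyclic.commGroup
    haveI : Nontrivial ↥N := Finite.one_lt_card_iff_nontrivial.1 (hcard ▸ hp.out.one_lt)
    obtain ⟨m₀, hm₀⟩ := exists_ne (1 : ↥N)
    obtain ⟨ω, hω⟩ := CommGroup.exists_apply_ne_one_of_hasEnoughRootsOfUnity ↥N ℂ hm₀
    exact ⟨ω, m₀, hω⟩
  set ψ : E ⧸ N → ℂ := (Ψ : E ⧸ N → ℂ) with hψ
  have hs : (s : ℂ) * s = 1 := by exact_mod_cast D.sign
  have hsc : conj (s : ℂ) = s := map_intCast (starRingEnd ℂ) s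
  let Φ : E ⧸ N → ℂ := (principalIrr (E ⧸ N) : E ⧸ N → ℂ) - (s : ℂ) • ψ
  have hΦ : ∀ q, p ∣ orderOf q → Φ q = 0 := fun q hq => by
    simp [Φ, hψ, D.vanish q hq]
  have hΦval : ∀ q, Φ q = 1 - (s : ℂ) * ψ q := fun q => by simp [Φ]
  have hΦcl : IsClassFunction (E ⧸ N) Φ :=
    isClassFunction_sub (irr_isClassFunction _) (isClassFunction_smul (irr_isClassFunction _) _)
  have hΦinner : ∀ χ : IrrCharacter (E ⧸ N), classInner Φ (χ : E ⧸ N → ℂ) =
      (if principalIrr (E ⧸ N) = χ then 1 else 0) - (s : ℂ) * (if Ψ = χ then 1 else 0) := fun χ => by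
    rw [classInner_sub_left, classInner_smul_left, classInner_irr, classInner_irr]
  have hΦgen : IsGeneralizedCharacter (E ⧸ N) Φ :=
    isGeneralizedCharacter_sub (isGeneralizedCharacter_irr _)
      (isGeneralizedCharacter_intCast_smul (isGeneralizedCharacter_irr _) s)
  have hΦnorm : classInner Φ Φ = 2 := by
    rw [show classInner Φ Φ = classInner Φ (principalIrr (E ⧸ N) : E ⧸ N → ℂ) -
      conj (s : ℂ) * classInner Φ ψ from by rw [classInner_sub_right, classInner_smul_right],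
      hΦinner, hΦinner, if_pos rfl, if_neg D.ne_principal, if_neg (Ne.symm D.ne_principal),
      if_pos rfl, hsc]
    linear_combination hs
  set F : E → ℂ := fun g => phase N (p := p) ω g * Φ (g : E ⧸ N) with hF
  have hFcl := liftFun_class N hNp hNc hΦ ω hΦcl
  -- the coefficients are integers
  have hint : ∀ η : IrrCharacter E, ∃ z : ℤ, classInner F (η : E → ℂ) = z := by
    intro η
    rcases (liftFun_inner N hNp hNc hΦ ω η).1 with h | h
    · exact ⟨0, by rw [h, Int.cast_zero]⟩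
    · rw [(liftFun_inner N hNp hNc hΦ ω η).2 h]
      exact classInner_generalized_int hΦgen (isGeneralizedCharacter_lift N hNp hNc η)
  choose a ha using hint
  have hnorm : ∑ η : IrrCharacter E, a η ^ 2 = 2 := by
    have h := classInner_eq_sum_mul (φ := F) hFcl
    rw [liftFun_norm N hNp hNc hΦ ω, hΦnorm] at h
    simp only [← hF, ha, map_intCast] at h
    have h' : ((2 : ℤ) : ℂ) = ((∑ η : IrrCharacter E, a η ^ 2 : ℤ) : ℂ) := by
      push_cast
      rw [h]
      simp [pow_two]
    exact (Int.cast_injective h').symm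
  set T := Finset.univ.filter fun η : IrrCharacter E => a η ≠ 0 with hT
  have hT2 : ∑ η ∈ T, a η ^ 2 = 2 := by
    rw [← hnorm]
    exact Finset.sum_subset (Finset.subset_univ _) fun η _ hη => by
      simp only [hT, Finset.mem_filter, Finset.mem_univ, true_and, not_not] at hη
      simp [hη]
  have hTsq : ∀ η ∈ T, a η * a η = 1 := by
    intro η hη
    have hne : a η ≠ 0 := (Finset.mem_filter.1 hη).2
    have hle : a η ^ 2 ≤ 2 := hT2 ▸ Finset.single_le_sum (fun χ _ => sq_nonneg (a χ)) hη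
    have h3 : -2 < a η := by nlinarith
    have h4 : a η < 2 := by nlinarith
    rcases (by omega : a η = 1 ∨ a η = -1) with h | h <;> simp [h]
  obtain ⟨η₁, η₂, hne, hT12⟩ : ∃ η₁ η₂, η₁ ≠ η₂ ∧ T = {η₁, η₂} := by
    refine Finset.card_eq_two.1 ?_
    have h : ((T.card : ℕ) : ℤ) = 2 := by
      rw [← hT2, Finset.card_eq_sum_ones, Nat.cast_sum]
      exact Finset.sum_congr rfl fun η hη => by rw [pow_two, hTsq η hη]; rfl
    exact_mod_cast h
  have hFsum : ∀ g, F g = (a η₁ : ℂ) * (η₁ : E → ℂ) g + (a η₂ : ℂ) * (η₂ : E → ℂ) g := by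
    intro g
    have h := congrFun (classFunction_eq_sum hFcl) g
    simp only [Finset.sum_apply, Pi.smul_apply, smul_eq_mul, ← hF, ha] at h
    rw [show F g = _ from h, ← Finset.sum_subset (Finset.subset_univ T) (fun η _ hη => by
      simp only [hT, Finset.mem_filter, Finset.mem_univ, true_and, not_not] at hη
      simp [hη]), hT12, Finset.sum_pair hne]
  -- each of the two is `1 + B (1 + s Ψ)` up to sign
  have hshape : ∀ η ∈ T, (∀ m : ↥N, (η : E → ℂ) m = ω m * (η : E → ℂ) 1) ∧ ∃ B : ℂ,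
      ∀ q, ¬ p ∣ orderOf q → (a η : ℂ) * (η : E → ℂ) (lift N p q) = 1 + B * (1 + (s : ℂ) * ψ q) := by
    intro η hη
    have hne0 : a η ≠ 0 := (Finset.mem_filter.1 hη).2
    have hlam : ∀ m : ↥N, (η : E → ℂ) m = ω m * (η : E → ℂ) 1 :=
      ((liftFun_inner N hNp hNc hΦ ω η).1).resolve_left fun h => hne0 (by
        rw [ha] at h; exact_mod_cast h)
    refine ⟨hlam, ?_⟩
    have hc := (liftFun_inner N hNp hNc hΦ ω η).2 hlam
    rw [ha] at hc
    set h : E ⧸ N → ℂ := fun q => (η : E → ℂ) (lift N p q) with hh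
    -- membership of the principal block
    have hblock : η ∈ principalBlock M E := by
      by_contra hnot
      have horth : ∀ π : IrrCharacter (E ⧸ N), π ∈ principalBlock M (E ⧸ N) →
          ∑ q ∈ Finset.univ.filter (fun q : E ⧸ N => ¬ p ∣ orderOf q),
            (π : E ⧸ N → ℂ) q * conj (h q) = 0 := by
        intro π hπ
        have hns : ¬ SameBlock M (Chars17.infl N π : E → ℂ) (η : E → ℂ) := fun hs' => hnot (by
          have h0 : SameBlock M (Chars17.infl N (principalIrr (E ⧸ N)) : E → ℂ)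
              (Chars17.infl N π : E → ℂ) := BlockCover.sameBlock_infl N hM hπ
          intro g
          have e := Blocks.MemLocalIdeal.add hM (h0 g) (hs' g)
          rw [sub_add_sub_cancel] at e
          exact e)
        rw [← CfsgLib.Blocks.sum_regular_eq_zero_of_not_sameBlock hM hns]
        refine Finset.sum_bij (fun q _ => lift N p q) (fun q hq => ?_) (fun q hq r hr e => ?_)
          (fun x hx => ?_) (fun q hq => ?_)
        · exact Finset.mem_filter.2 ⟨Finset.mem_univ _, regular_lift N q⟩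
        · rw [← mk_lift N (Finset.mem_filter.1 hq).2, e, mk_lift N (Finset.mem_filter.1 hr).2]
        · exact ⟨(x : E ⧸ N), Finset.mem_filter.2 ⟨Finset.mem_univ _,
            regular_mk N (Finset.mem_filter.1 hx).2⟩,
            lift_mk_regular N hNp hNc (Finset.mem_filter.1 hx).2⟩
        · rw [Chars17.infl_apply, mk_lift N (Finset.mem_filter.1 hq).2]
      apply hne0
      have : ((a η : ℤ) : ℂ) = 0 := by
        rw [hc, classInner, ← Finset.sum_filter_of_ne
          (p := fun q : E ⧸ N => ¬ p ∣ orderOf q) (fun q _ hq hd => hq (by rw [hΦ q hd, zero_mul])),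
          Finset.sum_congr rfl fun q _ => by
            rw [hΦval q, sub_mul, one_mul, mul_assoc], Finset.sum_sub_distrib, ← Finset.mul_sum,
          horth Ψ D.mem]
        have h0 := horth (principalIrr (E ⧸ N)) (CfsgLib.Blocks.principalIrr_mem hM)
        simp only [principalIrr_apply, one_mul] at h0
        rw [h0]
        simp
      exact_mod_cast this
    obtain ⟨α, β, hab⟩ := exists_span N hNp hNc D hM hblock
    -- the coefficient
    have hcoef : (a η : ℂ) = α - (s : ℂ) * β := by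
      have e : classInner Φ h =
          classInner Φ (α • (principalIrr (E ⧸ N) : E ⧸ N → ℂ) + β • ψ) := by
        simp only [classInner]
        congr 1
        refine Finset.sum_congr rfl fun q _ => ?_
        by_cases hq : p ∣ orderOf q
        · rw [hΦ q hq, zero_mul, zero_mul]
        · simp only [hh, hab q hq, Pi.add_apply, Pi.smul_apply, principalIrr_apply, smul_eq_mul,
            mul_one, hψ]
      rw [e, classInner_add_right, classInner_smul_right, classInner_smul_right, hΦinner,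
        hΦinner, if_pos rfl, if_neg D.ne_principal, if_neg (Ne.symm D.ne_principal), if_pos rfl] at hc
      have h' := congrArg conj hc
      simp only [map_add, map_mul, map_sub, Complex.conj_conj, map_one, map_zero, map_intCast,
        hsc] at h'
      linear_combination h'
    refine ⟨(a η : ℂ) * ((s : ℂ) * β), fun q hq => ?_⟩
    have hsq : (a η : ℂ) * a η = 1 := by exact_mod_cast hTsq η hη
    rw [hab q hq]
    linear_combination hsq - (a η : ℂ) * hcoef - (a η : ℂ) * β * ψ q * hs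
  obtain ⟨hlam₁, B₁, hB₁⟩ := hshape η₁ (by simp [hT12])
  obtain ⟨hlam₂, B₂, hB₂⟩ := hshape η₂ (by simp [hT12])
  have h1reg : ¬ p ∣ orderOf (1 : E ⧸ N) := by rw [orderOf_one]; exact hp.out.not_dvd_one
  have htreg : ¬ p ∣ orderOf t := by
    rw [ht]; exact fun h => hp2 ((Nat.prime_dvd_prime_iff_eq hp.out Nat.prime_two).1 h)
  -- the sum of the two parameters
  have hsp : (s : ℂ) = 1 ∨ (s : ℂ) = -1 := mul_self_eq_one_iff.1 hs
  have hdeg : ψ 1 = ((charDegree ψ : ℕ) : ℂ) := irr_one_eq_charDegree Ψ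
  have he1 : (s : ℂ) * ψ 1 ≠ 1 := by
    rcases hsp with h | h
    · rw [h, one_mul]; exact h1
    · rw [h, hdeg]
      intro e
      have e' : (((charDegree ψ : ℕ) + 1 : ℕ) : ℂ) = ((0 : ℕ) : ℂ) := by
        push_cast
        linear_combination -e
      exact Nat.succ_ne_zero _ (Nat.cast_injective e')
  have he2 : (s : ℂ) * ψ 1 ≠ -1 := by
    rcases hsp with h | h
    · rw [h, one_mul, hdeg]
      intro e
      have e' : (((charDegree ψ : ℕ) + 1 : ℕ) : ℂ) = ((0 : ℕ) : ℂ) := by
        push_cast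
        linear_combination e
      exact Nat.succ_ne_zero _ (Nat.cast_injective e')
    · rw [h, neg_one_mul]; exact fun e => h1 (neg_injective e)
  have he0 : (s : ℂ) * ψ 1 ≠ 0 := mul_ne_zero (left_ne_zero_of_mul_eq_one hs) (irr_one_ne_zero Ψ)
  have hBsum : B₁ + B₂ = -1 := by
    have h := hFsum (lift N p (1 : E ⧸ N))
    rw [hB₁ 1 h1reg, hB₂ 1 h1reg] at h
    have hF1 : F (lift N p (1 : E ⧸ N)) = 1 - (s : ℂ) * ψ 1 := by
      have := phase_mul N hNp hNc ω h1reg (1 : ↥N)
      simp only [OneMemClass.coe_one, one_mul, map_one, Units.val_one] at this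
      simp only [hF, this, one_mul, mk_lift N h1reg, hΦval]
    rw [hF1] at h
    have : (B₁ + B₂ + 1) * (1 + (s : ℂ) * ψ 1) = 0 := by linear_combination -h
    rcases mul_eq_zero.1 this with e | e
    · linear_combination e
    · exact absurd (by linear_combination e : (s : ℂ) * ψ 1 = -1) he2
  -- degrees
  have hdval : ∀ η ∈ T, ∀ B : ℂ,
      (∀ q, ¬ p ∣ orderOf q → (a η : ℂ) * (η : E → ℂ) (lift N p q) = 1 + B * (1 + (s : ℂ) * ψ q)) →
      (a η : ℂ) * (η : E → ℂ) 1 = 1 + B * (1 + (s : ℂ) * ψ 1) := fun η _ B hB => by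
    rw [← hB 1 h1reg, lift_one N hNp hNc]
  have hd₁ := hdval η₁ (by simp [hT12]) B₁ hB₁
  have hd₂ := hdval η₂ (by simp [hT12]) B₂ hB₂
  have hane : ∀ η ∈ T, (a η : ℂ) ≠ 0 := fun η hη =>
    Int.cast_ne_zero.2 (Finset.mem_filter.1 hη).2
  have hd₁0 : 1 + B₁ * (1 + (s : ℂ) * ψ 1) ≠ 0 :=
    hd₁ ▸ mul_ne_zero (hane η₁ (by simp [hT12])) (irr_one_ne_zero η₁)
  have hd₂0 : 1 + B₂ * (1 + (s : ℂ) * ψ 1) ≠ 0 :=
    hd₂ ▸ mul_ne_zero (hane η₂ (by simp [hT12])) (irr_one_ne_zero η₂)
  -- count the products of two involutions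
  obtain ⟨hcls, hsum⟩ := liftFun_cls N hNp hNc hΦ ω hp2 ht
  rw [sum_mul_cls t hΦcl, sum_mul_cls (lift N p t) hFcl, hcls] at hsum
  have hc0 : ((ClassCount.cls t).card : ℂ) ^ 2 ≠ 0 :=
    pow_ne_zero _ (Nat.cast_ne_zero.2 (Finset.card_pos.2 ⟨t, ClassCount.mem_cls_self t⟩).ne')
  have hid := mul_left_cancel₀ hc0 hsum
  rw [← Finset.sum_subset (Finset.subset_univ T) (fun η _ hη => by
      simp only [hT, Finset.mem_filter, Finset.mem_univ, true_and, not_not] at hη
      simp [← hF, ha, hη]), hT12, Finset.sum_pair hne,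
    ← Finset.sum_subset (Finset.subset_univ ({principalIrr (E ⧸ N), Ψ} : Finset _)) (fun χ _ hχ => by
      simp only [Finset.mem_insert, Finset.mem_singleton, not_or] at hχ
      rw [hΦinner, if_neg (Ne.symm hχ.1), if_neg (Ne.symm hχ.2)]; simp),
    Finset.sum_pair (Ne.symm D.ne_principal), hΦinner, hΦinner, if_pos rfl,
    if_neg D.ne_principal, if_neg (Ne.symm D.ne_principal), if_pos rfl] at hid
  simp only [← hF, ha, principalIrr_apply, ← hψ] at hid
  have hterm : ∀ η ∈ T, (a η : ℂ) * ((η : E → ℂ) (lift N p t) ^ 2 / (η : E → ℂ) 1) =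
      ((a η : ℂ) * (η : E → ℂ) (lift N p t)) ^ 2 / ((a η : ℂ) * (η : E → ℂ) 1) := fun η hη => by
    have := hane η hη
    field_simp
  rw [hterm η₁ (by simp [hT12]), hterm η₂ (by simp [hT12]), hB₁ t htreg, hB₂ t htreg, hd₁, hd₂] at hid
  have hrhs : (1 - (s : ℂ) * 0) * ((1 : ℂ) ^ 2 / 1) + (0 - (s : ℂ) * 1) * (ψ t ^ 2 / ψ 1) =
      1 - ((1 + (s : ℂ) * ψ t) - 1) ^ 2 / ((1 + (s : ℂ) * ψ 1) - 1) := by
    have h10 : ψ 1 ≠ 0 := irr_one_ne_zero Ψ
    have hs0 : (s : ℂ) ≠ 0 := left_ne_zero_of_mul_eq_one hs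
    field_simp
    ring
  rw [hrhs] at hid
  have hB0 := algebra_step (X := 1 + (s : ℂ) * ψ 1) (V := 1 + (s : ℂ) * ψ t)
    (fun e => he2 (by linear_combination e)) (fun e => he0 (by linear_combination e))
    (fun e => he1 (by linear_combination e))
    (fun e => hts (mul_left_cancel₀ (left_ne_zero_of_mul_eq_one hs) (add_left_cancel e)))
    hd₁0 hd₂0 hBsum hid
  -- a linear faithful character is impossible
  have hfin : ∀ η ∈ T, (∀ m : ↥N, (η : E → ℂ) m = ω m * (η : E → ℂ) 1) →
      (a η : ℂ) * (η : E → ℂ) 1 = 1 → False := by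
    intro η hη hlam hd
    have hdegη : (η : E → ℂ) 1 = ((charDegree (η : E → ℂ) : ℕ) : ℂ) := irr_one_eq_charDegree η
    rw [hdegη] at hd
    have hd' : a η * (charDegree (η : E → ℂ) : ℤ) = 1 := by exact_mod_cast hd
    have hdeg1 : charDegree (η : E → ℂ) = 1 := by
      have := Int.eq_one_or_neg_one_of_mul_eq_one' hd'
      have hpos := charDegree_irr_pos η
      omega
    obtain ⟨f, hf⟩ := LinearTwist.exists_hom_of_charDegree_one (irr_isCharacter η) hdeg1
    have hker : commutator E ≤ f.ker := Abelianization.commutator_subset_ker f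
    have h := hlam m₀
    rw [hdegη, hdeg1, Nat.cast_one, mul_one, congrFun hf (m₀ : E)] at h
    rw [MonoidHom.mem_ker.1 (hker (hNd m₀.2)), Units.val_one] at h
    exact hm₀ (Units.ext h.symm)
  rcases hB0 with e | e
  · exact hfin η₁ (by simp [hT12]) hlam₁ (by rw [hd₁, e, zero_mul, add_zero])
  · exact hfin η₂ (by simp [hT12]) hlam₂ (by rw [hd₂, e, zero_mul, add_zero])

end CfsgLib.SmithTyrer
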