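import Cfsg.Agent.Lib.SmithTyrer.Setup
import Mathlib.GroupTheory.FiniteAbelian.Basic

/-!
# A central extension of order `p` from an inverted non-cyclic Sylow subgroup

The corestriction of a bilinear cocycle on `P`: on commuting `x, y ∈ P` its skew part is
`[G : P]` times that of the cocycle.
-/

set_option autoImplicit false
set_option linter.style.haveILetI false
set_option linter.unusedSectionVars false

noncomputable section

namespace CfsgLib.SmithTyrer

open CfsgLib.AbelianFrob
open scoped Classical commutatorElement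

universe u

variable {G : Type u} [Group G] {p : ℕ} [hp : Fact p.Prime]

/-- A normalised cocycle with values in `ZMod p`. -/
structure IsCocycle (F : G → G → ZMod p) : Prop where
  assoc : ∀ σ τ ρ, F σ τ + F (σ * τ) ρ = F σ (τ * ρ) + F τ ρ
  one_left : ∀ τ, F 1 τ = 0

/-- The extension of a cocycle. -/
@[ext] structure Cover {F : G → G → ZMod p} (hF : IsCocycle F) : Type u where
  /-- The central coordinate. -/
  a : ZMod p
  /-- The image. -/
  g : G

namespace Cover

variable {F : G → G → ZMod p} {hF : IsCocycle F}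

instance : Mul (Cover hF) := ⟨fun x y => ⟨x.a + y.a + F x.g y.g, x.g * y.g⟩⟩
instance : One (Cover hF) := ⟨⟨0, 1⟩⟩
instance : Inv (Cover hF) := ⟨fun x => ⟨-x.a - F x.g⁻¹ x.g, x.g⁻¹⟩⟩

theorem mul_def (x y : Cover hF) : x * y = ⟨x.a + y.a + F x.g y.g, x.g * y.g⟩ := rfl

instance : Group (Cover hF) :=
  Group.ofLeftAxioms
    (fun x y z => by
      simp only [mul_def]
      refine Cover.ext ?_ (mul_assoc _ _ _)
      linear_combination hF.assoc x.g y.g z.g)
    (fun x => by
      show (⟨0, 1⟩ : Cover hF) * x = x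
      simp only [mul_def, hF.one_left, zero_add, add_zero, one_mul])
    (fun x => by
      show (⟨-x.a - F x.g⁻¹ x.g, x.g⁻¹⟩ : Cover hF) * x = ⟨0, 1⟩
      simp only [mul_def, inv_mul_cancel]
      exact Cover.ext (by ring) rfl)

instance [Finite G] : Finite (Cover hF) :=
  haveI : NeZero p := ⟨hp.out.ne_zero⟩
  Finite.of_injective (fun x => (x.a, x.g)) fun x y h =>
    Cover.ext (congrArg Prod.fst h) (congrArg Prod.snd h)

/-- The projection. -/
def proj (hF : IsCocycle F) : Cover hF →* G := MonoidHom.mk' Cover.g fun _ _ => rfl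

theorem proj_surjective : Function.Surjective (proj hF) := fun g => ⟨⟨0, g⟩, rfl⟩

theorem ker_le_center : (proj hF).ker ≤ Subgroup.center (Cover hF) := by
  intro x hx
  have hg : x.g = 1 := hx
  have h1 : ∀ σ, F σ 1 = 0 := fun σ => by
    have := hF.assoc σ 1 1
    simp only [mul_one, hF.one_left, add_zero] at this
    exact (add_eq_left).1 this
  refine Subgroup.mem_center_iff.2 fun y => ?_
  simp only [mul_def, hg, mul_one, one_mul, h1, hF.one_left]
  exact Cover.ext (by ring) rfl

theorem card_ker : Nat.card (proj hF).ker = p := by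
  let e : (proj hF).ker ≃ ZMod p :=
    { toFun := fun x => x.1.a
      invFun := fun a => ⟨⟨a, 1⟩, rfl⟩
      left_inv := fun x => Subtype.ext (Cover.ext rfl (x.2 : x.1.g = 1).symm)
      right_inv := fun a => rfl }
  rw [Nat.card_congr e, Nat.card_zmod]

/-- The kernel is in the derived group as soon as the skew part is non-zero somewhere. -/
theorem ker_le_commutator [Finite G] {x y : G} (hxy : x * y = y * x) (hne : F x y ≠ F y x) :
    (proj hF).ker ≤ commutator (Cover hF) := by
  set X : Cover hF := ⟨0, x⟩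
  set Y : Cover hF := ⟨0, y⟩
  set c : Cover hF := X * Y * (Y * X)⁻¹
  have hc : c ∈ commutator (Cover hF) := by
    have : c = ⁅X, Y⁆ := by simp only [c, commutatorElement_def]; group
    rw [this, commutator_def]
    exact Subgroup.commutator_mem_commutator (Subgroup.mem_top _) (Subgroup.mem_top _)
  have hck : c ∈ (proj hF).ker := by
    rw [MonoidHom.mem_ker]
    show x * y * (y * x)⁻¹ = 1
    rw [hxy, mul_inv_cancel]
  have hc1 : c ≠ 1 := by
    intro h
    have h2 : X * Y = Y * X := mul_inv_eq_one.1 h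
    exact hne (by simpa [X, Y, mul_def] using congrArg Cover.a h2)
  have hle : Subgroup.zpowers c = (proj hF).ker := by
    refine Subgroup.eq_of_le_of_card_ge (Subgroup.zpowers_le.2 hck) ?_
    rw [card_ker, Nat.card_zpowers]
    have hd := Subgroup.orderOf_dvd_natCard (proj hF).ker hck
    rw [card_ker] at hd
    rcases hp.out.eq_one_or_self_of_dvd _ hd with h | h
    · exact absurd (orderOf_eq_one_iff.1 h) hc1
    · rw [h]
  rw [← hle]
  exact Subgroup.zpowers_le.2 hc

end Cover

section Corestriction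

variable [Finite G] (P : Sylow p G)

/-- The monomial component. -/
def cmp (σ : G) (i : G ⧸ (P : Subgroup G)) : ↥(P : Subgroup G) :=
  ⟨(σ • i).out⁻¹ * σ * i.out, by
    rw [mul_assoc, ← QuotientGroup.eq, QuotientGroup.out_eq']
    conv_lhs => rw [← QuotientGroup.out_eq' i]
    rw [MulAction.Quotient.smul_coe, smul_eq_mul]⟩

theorem cmp_mul (σ τ : G) (i : G ⧸ (P : Subgroup G)) :
    cmp P (σ * τ) i = cmp P σ (τ • i) * cmp P τ i :=
  Subtype.ext (by simp only [cmp, mul_smul, Subgroup.coe_mul]; group)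

theorem cmp_one (i : G ⧸ (P : Subgroup G)) : cmp P 1 i = 1 :=
  Subtype.ext (by simp [cmp])

variable (φ ψ : ↥(P : Subgroup G) →* Multiplicative (ZMod p))

/-- An additive coordinate of the monomial component. -/
def coord (σ : G) (i : G ⧸ (P : Subgroup G)) : ZMod p := (φ (cmp P σ i)).toAdd

theorem coord_mul (σ τ : G) (i : G ⧸ (P : Subgroup G)) :
    coord P φ (σ * τ) i = coord P φ σ (τ • i) + coord P φ τ i := by
  simp only [coord, cmp_mul, map_mul, toAdd_mul]

theorem coord_one (i : G ⧸ (P : Subgroup G)) : coord P φ 1 i = 0 := by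
  simp [coord, cmp_one]

variable [Fintype (G ⧸ (P : Subgroup G))]

/-- The corestricted cocycle. -/
def cor (σ τ : G) : ZMod p :=
  ∑ i : G ⧸ (P : Subgroup G), coord P φ σ (τ • i) * coord P ψ τ i

theorem sum_smul {β : Type*} [AddCommMonoid β] (σ : G) (f : G ⧸ (P : Subgroup G) → β) :
    ∑ i, f (σ • i) = ∑ i, f i :=
  Equiv.sum_comp (MulAction.toPerm σ) f

theorem cor_isCocycle : IsCocycle (cor P φ ψ) where
  one_left τ := by simp [cor, coord_one]
  assoc σ τ ρ := by
    have h := sum_smul P ρ (fun i => coord P φ σ (τ • i) * coord P ψ τ i)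
    simp only [cor, coord_mul, add_mul, mul_add, Finset.sum_add_distrib, mul_smul]
    rw [h]
    abel

variable {P} {n : G} (h : Inverted P n)

include h

/-- An element conjugating a subset of `P` into `P` fixes or inverts it uniformly. -/
theorem Inverted.uniform (L : Subgroup G) (hL : L ≤ (P : Subgroup G)) (g : G)
    (hg : ∀ x ∈ L, g * x * g⁻¹ ∈ (P : Subgroup G)) :
    (∀ x ∈ L, g * x * g⁻¹ = x) ∨ ∀ x ∈ L, g * x * g⁻¹ = x⁻¹ := by
  have hone : ∀ x ∈ L, g * x * g⁻¹ = x ∨ g * x * g⁻¹ = x⁻¹ := by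
    intro x hx
    obtain ⟨m, hm, he⟩ := fusion P h.comm (hL hx) (hg x hx)
    rw [← he]
    rcases h.cases m hm with hc | hc
    · exact Or.inl (by rw [← Subgroup.mem_centralizer_iff.1 hc x (hL hx)]; group)
    · by_cases hx1 : x = 1
      · exact Or.inl (by simp [hx1])
      · exact Or.inr (h.not_mem_CP (hL hx) hx1 hc).1
  by_contra hc
  push Not at hc
  obtain ⟨⟨a, ha, ha'⟩, b, hb, hb'⟩ := hc
  have ea := (hone a ha).resolve_left ha'
  have eb := (hone b hb).resolve_right hb'
  have hab : g * (a * b) * g⁻¹ = a⁻¹ * b := by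
    calc g * (a * b) * g⁻¹ = g * a * g⁻¹ * (g * b * g⁻¹) := by group
      _ = _ := by rw [ea, eb]
  have hcomm : a * b = b * a := congrArg Subtype.val
    (h.comm.is_comm.comm (⟨a, hL ha⟩ : ↥(P : Subgroup G)) ⟨b, hL hb⟩)
  rcases hone _ (mul_mem ha hb) with e | e
  · rw [hab] at e
    have : a⁻¹ = a := mul_right_cancel e
    exact ha' (by rw [eq_one_of_inv_eq h.odd (orderOf_mem_sylow (hL ha)) this]; group)
  · rw [hab, hcomm, mul_inv_rev] at e
    have : b = b⁻¹ := mul_left_cancel e
    exact hb' (by rw [eq_one_of_inv_eq h.odd (orderOf_mem_sylow (hL hb)) this.symm]; group)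

/-- The skew part of the corestriction. -/
theorem cor_skew {x y : G} (hx : x ∈ (P : Subgroup G)) (hy : y ∈ (P : Subgroup G)) :
    cor P φ ψ x y - cor P φ ψ y x = ((P : Subgroup G).index : ZMod p) *
      ((φ ⟨x, hx⟩).toAdd * (ψ ⟨y, hy⟩).toAdd - (φ ⟨y, hy⟩).toAdd * (ψ ⟨x, hx⟩).toAdd) := by
  set L := Subgroup.closure ({x, y} : Set G)
  have hL : L ≤ (P : Subgroup G) := by
    rw [Subgroup.closure_le]
    rintro z (rfl | rfl) <;> assumption
  have hxL : x ∈ L := Subgroup.subset_closure (Or.inl rfl)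
  have hyL : y ∈ L := Subgroup.subset_closure (Or.inr rfl)
  let r : G ⧸ (P : Subgroup G) → G ⧸ (P : Subgroup G) := fun i =>
    (Quotient.mk'' i : MulAction.orbitRel.Quotient ↥L (G ⧸ (P : Subgroup G))).out
  have hr : ∀ i, ∃ l : ↥L, (l : G) • r i = i := fun i => by
    have hmk : (Quotient.mk'' (r i) : MulAction.orbitRel.Quotient ↥L (G ⧸ (P : Subgroup G))) =
        Quotient.mk'' i := Quotient.out_eq' _
    obtain ⟨l, hl⟩ := MulAction.orbitRel_apply.1 (Quotient.eq''.1 hmk.symm)
    exact ⟨l, hl⟩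
  have hrinv : ∀ (l : ↥L) i, r ((l : G) • i) = r i := fun l i =>
    congrArg Quotient.out (Quotient.eq''.2 (MulAction.orbitRel_apply.2 ⟨l, rfl⟩) :
      (Quotient.mk'' ((l : G) • i) : MulAction.orbitRel.Quotient ↥L (G ⧸ (P : Subgroup G))) = _)
  -- the sign of an orbit
  have hsign : ∀ j : G ⧸ (P : Subgroup G), ∃ e : ZMod p, e * e = 1 ∧
      ∀ (z : G) (hz : z ∈ L), z • j = j → ∀ ξ : ↥(P : Subgroup G) →* Multiplicative (ZMod p),
        coord P ξ z j = e * (ξ ⟨z, hL hz⟩).toAdd := by
    intro j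
    let St : Subgroup G := L ⊓ MulAction.stabilizer G j
    have hval : ∀ z ∈ St, (cmp P z j : G) = j.out⁻¹ * z * j.out := fun z hz => by
      show (z • j).out⁻¹ * z * j.out = _
      rw [(hz.2 : z • j = j)]
    have huni := h.uniform St (inf_le_left.trans hL) j.out⁻¹ fun z hz => by
      rw [inv_inv, ← hval z hz]; exact (cmp P z j).2
    rcases huni with hu | hu
    · refine ⟨1, one_mul 1, fun z hz hzj ξ => ?_⟩
      have he : cmp P z j = ⟨z, hL hz⟩ := Subtype.ext (by
        rw [hval z ⟨hz, hzj⟩]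
        have := hu z ⟨hz, hzj⟩
        rwa [inv_inv] at this)
      rw [coord, he, one_mul]
    · refine ⟨-1, by ring, fun z hz hzj ξ => ?_⟩
      have he : cmp P z j = (⟨z, hL hz⟩ : ↥(P : Subgroup G))⁻¹ := Subtype.ext (by
        rw [hval z ⟨hz, hzj⟩, Subgroup.coe_inv]
        have := hu z ⟨hz, hzj⟩
        rwa [inv_inv] at this)
      rw [coord, he, map_inv, toAdd_inv, neg_one_mul]
  choose e he1 he2 using hsign
  choose l hl using hr
  let U : (↥(P : Subgroup G) →* Multiplicative (ZMod p)) → G ⧸ (P : Subgroup G) → ZMod p :=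
    fun ξ i => coord P ξ (l i) (r i) - e (r i) * (ξ ⟨l i, hL (l i).2⟩).toAdd
  have hsplit : ∀ (ξ : ↥(P : Subgroup G) →* Multiplicative (ZMod p)) (a : G) (ha : a ∈ L) i,
      coord P ξ a i = e (r i) * (ξ ⟨a, hL ha⟩).toAdd + (U ξ (a • i) - U ξ i) := by
    intro ξ a ha i
    have hl' : ((l (a • i) : ↥L) : G) • r i = a • i := by
      rw [← hrinv ⟨a, ha⟩ i]; exact hl _
    set k : G := ((l (a • i) : ↥L) : G)⁻¹ * (a * (l i : G)) with hk
    have hkL : k ∈ L := mul_mem (inv_mem (l _).2) (mul_mem ha (l i).2)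
    have hkfix : k • r i = r i := by
      rw [hk, mul_smul, mul_smul, hl, inv_smul_eq_iff, hl']
    have e1 := coord_mul P ξ a (l i : G) (r i)
    rw [hl, show a * (l i : G) = (l (a • i) : G) * k by rw [hk, mul_inv_cancel_left],
      coord_mul, hkfix, he2 (r i) k hkL hkfix ξ] at e1
    have hkP : (⟨k, hL hkL⟩ : ↥(P : Subgroup G)) =
        (⟨(l (a • i) : G), hL (l _).2⟩ : ↥(P : Subgroup G))⁻¹ *
          (⟨a, hL ha⟩ * ⟨(l i : G), hL (l i).2⟩) := Subtype.ext rfl
    simp only [hkP, map_mul, map_inv, toAdd_mul, toAdd_inv] at e1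
    simp only [U]
    rw [show r (a • i) = r i from hrinv ⟨a, ha⟩ i]
    linear_combination -e1
  have hxy : x * y = y * x := congrArg Subtype.val
    (h.comm.is_comm.comm (⟨x, hx⟩ : ↥(P : Subgroup G)) ⟨y, hy⟩)
  set a := (φ ⟨x, hx⟩).toAdd
  set b := (ψ ⟨y, hy⟩).toAdd
  set c := (φ ⟨y, hy⟩).toAdd
  set d := (ψ ⟨x, hx⟩).toAdd
  set u := U φ
  set w := U ψ
  let E' : G ⧸ (P : Subgroup G) → ZMod p := fun i => e (r i)
  have hEx : ∀ i, E' (x • i) = E' i := fun i => congrArg e (hrinv ⟨x, hxL⟩ i)
  have hEy : ∀ i, E' (y • i) = E' i := fun i => congrArg e (hrinv ⟨y, hyL⟩ i)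
  have hswap : ∀ i : G ⧸ (P : Subgroup G), y • x • i = x • y • i := fun i => by
    rw [← mul_smul, ← mul_smul, hxy]
  have hterm : ∀ i, coord P φ x (y • i) * coord P ψ y i - coord P φ y (x • i) * coord P ψ x i =
      (a * b - c * d) +
        ((a * (E' (y • i) * w (y • i)) - a * (E' i * w i)) +
          (b * (E' (x • y • i) * u (x • y • i)) - b * (E' (y • i) * u (y • i))) -
          (c * (E' (x • i) * w (x • i)) - c * (E' i * w i)) -
          (d * (E' (x • y • i) * u (x • y • i)) - d * (E' (x • i) * u (x • i))) +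
          ((u (x • y • i) * w (y • i) - u (x • i) * w i) -
            (u (y • x • i) * w (x • i) - u (y • i) * w i) -
            (u (y • i) * w (y • i) - u i * w i) +
            (u (x • i) * w (x • i) - u i * w i))) := by
    intro i
    rw [hsplit φ x hxL, hsplit ψ y hyL, hsplit φ y hyL, hsplit ψ x hxL]
    change (E' (y • i) * a + (u (x • y • i) - u (y • i))) * (E' i * b + (w (y • i) - w i)) -
      (E' (x • i) * c + (u (y • x • i) - u (x • i))) * (E' i * d + (w (x • i) - w i)) = _
    simp only [hEy, hEx, hswap]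
    linear_combination (a * b - c * d) * he1 (r i)
  rw [cor, cor, ← Finset.sum_sub_distrib, Finset.sum_congr rfl fun i _ => hterm i]
  simp only [Finset.sum_add_distrib, Finset.sum_sub_distrib, Finset.sum_const, Finset.card_univ,
    nsmul_eq_mul]
  have hy' := fun f : G ⧸ (P : Subgroup G) → ZMod p => sum_smul P y f
  have hx' := fun f : G ⧸ (P : Subgroup G) → ZMod p => sum_smul P x f
  rw [hy' fun i => a * (E' i * w i), hy' fun i => b * (E' (x • i) * u (x • i)),
    hx' fun i => b * (E' i * u i), hy' fun i => b * (E' i * u i),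
    hx' fun i => c * (E' i * w i), hy' fun i => d * (E' (x • i) * u (x • i)),
    hx' fun i => u (y • i) * w i, hy' fun i => u (x • i) * w i,
    hy' fun i => u i * w i, hx' fun i => u i * w i]
  rw [← Nat.card_eq_fintype_card, ← Subgroup.index_eq_card]
  ring

end Corestriction

/-- The central extension. -/
theorem Inverted.exists_extension [Finite G] {P : Sylow p G} {n : G} (h : Inverted P n)
    (hnc : ¬ IsCyclic ↥(P : Subgroup G)) :
    ∃ (E : Type u) (_ : Group E) (_ : Finite E) (N : Subgroup E) (_ : N.Normal),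
      N ≤ Subgroup.center E ∧ Nat.card N = p ∧ N ≤ commutator E ∧ Nonempty (E ⧸ N ≃* G) := by
  haveI := h.comm
  letI : CommGroup ↥(P : Subgroup G) :=
    { (inferInstance : Group ↥(P : Subgroup G)) with mul_comm := h.comm.is_comm.comm }
  obtain ⟨ι, hι, m, hm, ⟨eqv⟩⟩ :=
    CommGroup.equiv_prod_multiplicative_zmod_of_finite ↥(P : Subgroup G)
  obtain ⟨i, j, hij⟩ : ∃ i j : ι, i ≠ j := by
    by_contra hc
    push Not at hc
    apply hnc
    rcases isEmpty_or_nonempty ι with he | ⟨⟨i⟩⟩
    · haveI : Subsingleton ↥(P : Subgroup G) := eqv.toEquiv.subsingleton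
      infer_instance
    · refine isCyclic_of_injective ((Pi.evalMonoidHom _ i).comp eqv.toMonoidHom) fun a b hab => ?_
      exact eqv.injective (funext fun k => by rw [hc k i]; exact hab)
  have hpm : ∀ k : ι, p ∣ m k := by
    intro k
    let z : ↥(P : Subgroup G) := eqv.symm (Pi.mulSingle k (Multiplicative.ofAdd 1))
    have hz : orderOf z = m k := by
      rw [MulEquiv.orderOf_eq, ← MonoidHom.mulSingle_apply,
        orderOf_injective (MonoidHom.mulSingle (fun i => Multiplicative (ZMod (m i))) k)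
          (fun a b hab => Pi.mulSingle_injective (M := fun i => Multiplicative (ZMod (m i))) k hab), orderOf_ofAdd_eq_addOrderOf, ZMod.addOrderOf_one]
    obtain ⟨q, hq⟩ := IsPGroup.iff_orderOf.1 P.2 z
    rcases q with _ | q
    · have := hm k; rw [pow_zero, hz] at hq; omega
    · exact ⟨p ^ q, by rw [← hz, hq, pow_succ']⟩
  let coordHom : ι → ↥(P : Subgroup G) →* Multiplicative (ZMod p) := fun k =>
    ((ZMod.castHom (hpm k) (ZMod p)).toAddMonoidHom.toMultiplicative).comp
      ((Pi.evalMonoidHom _ k).comp eqv.toMonoidHom)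
  let z : ι → ↥(P : Subgroup G) := fun k => eqv.symm (Pi.mulSingle k (Multiplicative.ofAdd 1))
  have hval : ∀ k k', (coordHom k (z k')).toAdd = if k = k' then 1 else 0 := by
    intro k k'
    simp only [coordHom, z, MonoidHom.coe_comp, Function.comp_apply, MulEquiv.coe_toMonoidHom,
      MulEquiv.apply_symm_apply, Pi.evalMonoidHom_apply]
    by_cases hkk : k = k'
    · subst hkk
      rw [if_pos rfl, Pi.mulSingle_eq_same]
      exact map_one (ZMod.castHom (hpm k) (ZMod p))
    · rw [if_neg hkk, Pi.mulSingle_eq_of_ne hkk, map_one]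
      rfl
  letI : Fintype (G ⧸ (P : Subgroup G)) := Fintype.ofFinite _
  set F := cor P (coordHom i) (coordHom j)
  have hF : IsCocycle F := cor_isCocycle P _ _
  refine ⟨Cover hF, inferInstance, inferInstance, (Cover.proj hF).ker, inferInstance,
    Cover.ker_le_center, Cover.card_ker, ?_,
    ⟨QuotientGroup.quotientKerEquivOfSurjective _ Cover.proj_surjective⟩⟩
  refine Cover.ker_le_commutator (x := (z i : G)) (y := (z j : G))
    (congrArg Subtype.val (h.comm.is_comm.comm (z i) (z j))) fun he => ?_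
  have hs := cor_skew (coordHom i) (coordHom j) h (z i).2 (z j).2
  rw [sub_eq_zero.2 he] at hs
  simp only [Subtype.coe_eta, hval, if_pos, if_neg hij, if_neg (Ne.symm hij), mul_one, mul_zero,
    sub_zero] at hs
  exact P.not_dvd_index ((ZMod.natCast_eq_zero_iff _ _).1 hs.symm)

end CfsgLib.SmithTyrer
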