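import Cfsg.Agent.Lib.SmithTyrer.Core
import Cfsg.Agent.Lib.SmithTyrer.Extension
import Cfsg.Agent.Lib.Transfer.Basic
import Cfsg.Agent.Lib.Transfer.NormalComplement
import Cfsg.Agent.Lib.TwoGroups.ControlledTransfer
import Cfsg.Agent.Lib.OddOrder.PLengthOne
import Cfsg.Agent.Lib.OddOrder41.ZGroupPLength
import Cfsg.Agent.Lib.Blk4.RealOddBasic
import Cfsg.Agent.Lib.BlockCover.Regular
import Cfsg.Agent.Lib.Blocks.BlockKernel

/-!
# Smith–Tyrer: abelian non-cyclic Sylow subgroups with automizer of order two
-/

set_option autoImplicit false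
set_option linter.style.haveILetI false
set_option linter.unusedSectionVars false

noncomputable section

namespace CfsgLib.SmithTyrer

open Cfsg CfsgLib.Characters CfsgLib.CharCorr CfsgLib.AbelianFrob
open scoped Classical commutatorElement

universe u

variable {p : ℕ} [hp : Fact p.Prime]

theorem Inverted.transport {G G' : Type u} [Group G] [Group G'] [Finite G] [Finite G'] {P : Sylow p G}
    {n : G} (h : Inverted P n) (f : G →* G') (hf : Function.Surjective f)
    (hinj : ∀ x ∈ (P : Subgroup G), f x = 1 → x = 1)
    (hnorm : ∀ g' ∈ Subgroup.normalizer (((P : Subgroup G).map f : Subgroup G') : Set G'),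
      ∃ g ∈ NP P, f g = g') :
    Inverted (P.mapSurjective hf) (f n) ∧
      (IsCyclic ↥((P.mapSurjective hf : Sylow p G') : Subgroup G') → IsCyclic ↥(P : Subgroup G)) := by
  refine ⟨⟨?_, h.odd, ?_, ?_⟩, fun hc => ?_⟩
  · refine ⟨⟨fun a b => Subtype.ext ?_⟩⟩
    obtain ⟨x, hx, ex⟩ := a.2
    obtain ⟨y, hy, ey⟩ := b.2
    show (a : G') * b = b * a
    rw [← ex, ← ey, ← map_mul, ← map_mul]
    exact congrArg f (congrArg Subtype.val (h.comm.is_comm.comm (⟨x, hx⟩ : ↥(P : Subgroup G)) ⟨y, hy⟩))
  · rintro _ ⟨x, hx, rfl⟩
    rw [← map_inv f n, ← map_mul, ← map_mul, h.inv x hx, map_inv]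
  · intro g' hg'
    obtain ⟨g, hg, rfl⟩ := hnorm g' hg'
    have hC : ∀ c ∈ CP P, f c ∈ CP (P.mapSurjective hf) := fun c hc => by
      refine Subgroup.mem_centralizer_iff.2 ?_
      rintro _ ⟨x, hx, rfl⟩
      rw [← map_mul, ← map_mul, Subgroup.mem_centralizer_iff.1 hc x hx]
    rcases h.cases g hg with hc | hc
    · exact Or.inl (hC g hc)
    · exact Or.inr (by rw [← map_inv, ← map_mul]; exact hC _ hc)
  · haveI := hc
    refine isCyclic_of_injective ((f.comp (P : Subgroup G).subtype).codRestrict
      ((P.mapSurjective hf : Sylow p G') : Subgroup G') fun x => ⟨x, x.2, rfl⟩) ?_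
    rw [injective_iff_map_eq_one]
    exact fun x hx => Subtype.ext (hinj x x.2 (congrArg Subtype.val hx))

theorem nine_le_card {G : Type u} [Group G] [Finite G] {P : Sylow p G} (hodd : p ≠ 2)
    (hnc : ¬ IsCyclic ↥(P : Subgroup G)) : 9 ≤ Nat.card ↥(P : Subgroup G) := by
  obtain ⟨k, hk⟩ := P.2.exists_card_eq
  have hp3 : 3 ≤ p := by have := hp.out.two_le; omega
  have hk2 : 2 ≤ k := by
    by_contra hlt
    interval_cases k
    · exact hnc (isCyclic_of_card_dvd_prime (p := p) (by rw [hk, pow_zero]; exact one_dvd p))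
    · exact hnc (isCyclic_of_prime_card (by rw [hk, pow_one]))
  rw [hk]
  calc 9 = 3 ^ 2 := by norm_num
    _ ≤ p ^ 2 := Nat.pow_le_pow_left hp3 2
    _ ≤ p ^ k := Nat.pow_le_pow_right hp.out.pos hk2

/-- No simple group has an inverted non-cyclic abelian Sylow subgroup. -/
theorem not_simple {G : Type u} [Group G] [Finite G] [IsSimpleGroup G] {P : Sylow p G} {n : G}
    (h : Inverted P n) (hnc : ¬ IsCyclic ↥(P : Subgroup G)) : False := by
  have hPne : (P : Subgroup G) ≠ ⊥ := fun e => hnc (by rw [e]; infer_instance)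
  obtain ⟨y, hy, hy1⟩ : ∃ y ∈ (P : Subgroup G), y ≠ 1 := by
    by_contra hc
    push Not at hc
    exact hPne ((Subgroup.eq_bot_iff_forall _).2 hc)
  have hnab : commutator G = ⊤ := by
    refine (IsSimpleGroup.eq_bot_or_eq_top_of_normal (commutator G) inferInstance).resolve_left fun e => ?_
    have hc : n * y * n⁻¹ * y⁻¹ ∈ commutator G := by
      rw [commutator_def]
      exact Subgroup.commutator_mem_commutator (Subgroup.mem_top n) (Subgroup.mem_top y)
    rw [e, Subgroup.mem_bot, mul_inv_eq_one, h.inv y hy] at hc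
    exact hy1 (eq_one_of_inv_eq h.odd (orderOf_mem_sylow hy) hc)
  have h2 : 2 ∣ Nat.card G := by
    have hd := dvd_of_eq (h.relIndex_eq hPne).symm
    exact hd.trans ((Subgroup.index_dvd_card _).trans (Subgroup.card_subgroup_dvd_card _))
  obtain ⟨E, hEg, hEf, N, hN, hNc, hcard, hNd, ⟨e⟩⟩ := h.exists_extension hnc
  letI := Fintype.ofFinite E
  letI : Fintype (E ⧸ N) := Fintype.ofFinite _
  obtain ⟨hinv, hcyc⟩ := h.transport e.symm.toMonoidHom e.symm.surjective
    (fun x _ hx => e.symm.injective (hx.trans (map_one e.symm).symm)) (fun g' hg' => by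
      refine ⟨e g', ?_, e.symm_apply_apply g'⟩
      rw [← Subgroup.map_equiv_normalizer_eq, Subgroup.mem_map] at hg'
      obtain ⟨g, hg, hge⟩ := hg'
      rw [← hge]
      show e (e.symm g) ∈ NP P
      rw [e.apply_symm_apply]
      exact hg)
  obtain ⟨M, hM⟩ := BlockCover.exists_isPModular hp.out
  obtain ⟨Ψ, s, D⟩ := hinv.exists_pairData hM (nine_le_card h.odd fun hc => hnc (hcyc hc))
  obtain ⟨t, ht⟩ := @exists_prime_orderOf_dvd_card' (E ⧸ N) _ _ 2 ⟨Nat.prime_two⟩
    (by rwa [Nat.card_congr e.toEquiv])
  have hNp : IsPGroup p N := IsPGroup.of_card (n := 1) (by rw [hcard, pow_one])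
  haveI : IsSimpleGroup (E ⧸ N) :=
    haveI : Nontrivial (E ⧸ N) := e.toEquiv.nontrivial
    IsSimpleGroup.isSimpleGroup_of_surjective e.symm.toMonoidHom e.symm.surjective
  obtain ⟨K, hKn, hKmem⟩ := CfsgLib.Blocks.exists_kerSubgroup Ψ
  have hKtop : K ≠ ⊤ := by
    intro hK
    have hall : ∀ g, (Ψ : E ⧸ N → ℂ) g = (Ψ : E ⧸ N → ℂ) 1 :=
      fun g => (hKmem g).mp (hK ▸ Subgroup.mem_top g)
    have h' := classInner_irr_ne Ψ.2 (principalIrr (E ⧸ N)).2 (fun e => D.ne_principal (Subtype.ext e))
    simp [classInner, hall, principalIrr_apply, irr_one_ne_zero Ψ] at h'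
  refine no_extension N hNp hNc hcard hNd h.odd hM D ht (fun h1 => hKtop ?_) fun hts => hKtop ?_
  · rw [irr_one_eq_charDegree, Nat.cast_eq_one] at h1
    obtain ⟨f, hf⟩ := LinearTwist.exists_hom_of_charDegree_one (irr_isCharacter Ψ) h1
    refine Subgroup.eq_top_iff' _ |>.2 fun g => (hKmem g).2 ?_
    have hg : g ∈ commutator (E ⧸ N) := by
      rw [← map_commutator_of_surjective e.symm.toMonoidHom e.symm.surjective, hnab,
        Subgroup.map_top_of_surjective _ e.symm.surjective]
      exact Subgroup.mem_top g
    rw [congrFun hf g, congrFun hf 1, map_one,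
      MonoidHom.mem_ker.1 (Abelianization.commutator_subset_ker f hg)]
  · refine (IsSimpleGroup.eq_bot_or_eq_top_of_normal K hKn).resolve_left fun hK => ?_
    have : t ∈ K := (hKmem t).2 hts
    rw [hK, Subgroup.mem_bot] at this
    rw [this, orderOf_one] at ht
    exact absurd ht (by norm_num)
where
  map_commutator_of_surjective {A B : Type u} [Group A] [Group B] (f : A →* B)
      (hf : Function.Surjective f) : (commutator A).map f = commutator B := by
    rw [commutator_def, commutator_def, Subgroup.map_commutator, Subgroup.map_top_of_surjective f hf]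

/-- The reduction. -/
theorem pLengthLE_one : ∀ (N : ℕ) {G : Type u} [Group G] [Finite G], Nat.card G ≤ N →
    ∀ {P : Sylow p G} {n : G}, Inverted P n → ¬ IsCyclic ↥(P : Subgroup G) →
    pResidual p G = ⊤ → PLengthLE p 1 G := by
  intro N
  induction N with
  | zero => intro G _ _ hG; have := Nat.card_pos (α := G); omega
  | succ N ih =>
    intro G _ _ hG P n h hnc hres
    by_cases hO : pPrimeCore p G = ⊥
    swap
    · -- pass to the quotient by the p'-core
      set O := pPrimeCore p G with hOdef
      have hcop : ¬ p ∣ Nat.card O := CfsgLib.PCore.not_dvd_card_pPrimeCore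
      have hlt : Nat.card (G ⧸ O) ≤ N := by
        have h1 := Subgroup.card_eq_card_quotient_mul_card_subgroup O
        have h2 : 2 ≤ Nat.card O := Subgroup.one_lt_card_iff_ne_bot O |>.2 hO
        have h3 := Nat.card_pos (α := G ⧸ O)
        nlinarith
      have hinj : ∀ x ∈ (P : Subgroup G), QuotientGroup.mk' O x = 1 → x = 1 := fun x hx hx' => by
        obtain ⟨k, hk⟩ := orderOf_mem_sylow hx
        exact orderOf_eq_one_iff.1 (Nat.eq_one_of_dvd_coprimes
          ((hp.out.coprime_iff_not_dvd.2 hcop).pow_left k) (dvd_of_eq hk)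
          (O.orderOf_dvd_natCard ((QuotientGroup.eq_one_iff x).1 hx')))
      obtain ⟨h', hcyc⟩ := h.transport (QuotientGroup.mk' O) (QuotientGroup.mk'_surjective O) hinj
        fun g' hg' => by
          rw [← CfsgLib.Blk4.RealOdd.map_normalizer_sylow P O] at hg'
          exact hg'
      have hres' : pResidual p (G ⧸ O) = ⊤ := by
        refine top_le_iff.1 ?_
        rw [← Subgroup.map_top_of_surjective (QuotientGroup.mk' O) (QuotientGroup.mk'_surjective O),
          ← hres]
        exact CfsgLib.Transfer.map_pResidual_le _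
      have hq := ih hlt h' (fun hc => hnc (hcyc hc)) hres'
      refine OddOrder.PLengthOne.of_index ?_
      rw [pPrimePCore, Subgroup.index_comap_of_surjective _ (QuotientGroup.mk'_surjective _)]
      exact OddOrder41.ZGroupPLength.index_pCore_of_pLength
        CfsgLib.PCore.pPrimeCore_quotient_pPrimeCore hq
    · have hfrob := h.fpf
      have hP0 : (P : Subgroup G) ≠ ⊥ := fun e => hnc (by rw [e]; infer_instance)
      -- a normal Sylow subgroup suffices
      have hnormalP : ∀ K : Subgroup G, K.Normal → K = (P : Subgroup G) → PLengthLE p 1 G := by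
        intro K hK hKP
        haveI := hK
        refine OddOrder.PLengthOne.of_series (K := ⊥) (N := K) (by simp) ?_ ?_
        · rw [Subgroup.relIndex_bot_left, hKP]
          exact IsPGroup.iff_card.1 P.2
        · rw [hKP]; exact P.not_dvd_index
      -- a normal subgroup with a normal complement is the Sylow subgroup
      have hcompl : ∀ K : Subgroup G, K.Normal → HasNormalPComplement p K → IsPGroup p K := by
        intro K hK hcK
        haveI := hK
        have hbot := CfsgLib.PCore.pPrimeCore_eq_bot_of_normal (p := p) K hO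
        obtain ⟨Q, C, hCn, hCc⟩ := hcK
        haveI := hCn
        have hC : C = ⊥ := le_bot_iff.1 (hbot ▸ CfsgLib.PCore.le_pPrimeCore_of_not_dvd hCn
          (by rw [← hCc.index_eq_card]; exact Q.not_dvd_index))
        have hQ : (Q : Subgroup K) = ⊤ := Subgroup.isComplement'_bot_left.1 (hC ▸ hCc)
        have := Q.2
        rw [hQ] at this
        exact this.of_equiv Subgroup.topEquiv
      by_cases hsimple : IsSimpleGroup G
      · exact (not_simple h hnc).elim
      obtain ⟨K, hKn, hKb, hKt⟩ : ∃ K : Subgroup G, K.Normal ∧ K ≠ ⊥ ∧ K ≠ ⊤ := by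
        by_contra hc
        push Not at hc
        haveI : Nontrivial G := by
          obtain ⟨y, -, hy⟩ : ∃ y ∈ (P : Subgroup G), y ≠ 1 := by
            by_contra hc'
            push Not at hc'
            exact hP0 ((Subgroup.eq_bot_iff_forall _).2 hc')
          exact ⟨⟨y, 1, hy⟩⟩
        exact hsimple ⟨fun K hK => by
          by_cases hb : K = ⊥
          · exact Or.inl hb
          · exact Or.inr (hc K hK hb)⟩
      -- every such subgroup contains the Sylow subgroup or is a `p`-group
      have hdich : ∀ K : Subgroup G, K.Normal → K ≠ ⊥ → (P : Subgroup G) ≤ K ∨ PLengthLE p 1 G := by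
        intro K hK hKb
        haveI := hK
        by_cases hPK : (P : Subgroup G) ≤ K
        · exact Or.inl hPK
        refine Or.inr ?_
        let S₀ : Sylow p K := default
        obtain ⟨Q₀, hQ₀⟩ := S₀.exists_comap_subtype_eq
        obtain ⟨g₀, hg₀⟩ := MulAction.exists_smul_eq G Q₀ P
        let Q : Sylow p K := S₀.mapSurjective
          (f := (MulAut.conjNormal g₀ : MulAut K).toMonoidHom) (MulAut.conjNormal g₀ : MulAut K).surjective
        have hQmem : ∀ a : ↥K, a ∈ (Q : Subgroup K) ↔ (a : G) ∈ (P : Subgroup G) := fun a => by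
          rw [← hg₀, Sylow.coe_subgroup_smul, Subgroup.mem_pointwise_smul_iff_inv_smul_mem]
          show a ∈ (S₀ : Subgroup K).map (MulAut.conjNormal g₀ : MulAut K).toMonoidHom ↔ _
          rw [Subgroup.mem_map_equiv, ← hQ₀, Subgroup.mem_comap, Subgroup.subtype_apply,
            MulAut.conjNormal_symm_apply, MulAut.smul_def, MulAut.conj_inv_apply]
        have hnorm : Subgroup.normalizer ((Q : Subgroup K) : Set K) ≤
            Subgroup.centralizer ((Q : Subgroup K) : Set K) := by
          intro k hk
          by_contra hkc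
          -- `k` inverts an element of `Q`
          obtain ⟨a, ha, hak⟩ : ∃ a ∈ (Q : Subgroup K), a * k ≠ k * a := by
            simp only [Subgroup.mem_centralizer_iff, SetLike.mem_coe, not_forall] at hkc
            obtain ⟨a, ha, hh⟩ := hkc
            exact ⟨a, ha, hh⟩
          have haP : (a : G) ∈ (P : Subgroup G) := (hQmem a).1 ha
          have hconj : (k : G) * a * (k : G)⁻¹ ∈ (P : Subgroup G) :=
            (hQmem (k * a * k⁻¹)).1 ((Subgroup.mem_normalizer_iff.1 hk a).1 ha)
          obtain ⟨m, hm, hme⟩ := fusion P h.comm haP hconj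
          have ha1 : (a : G) ≠ 1 := fun e => hak (by
            rw [show a = 1 from Subtype.ext e, one_mul, mul_one])
          rcases h.cases m hm with hc | hc
          · apply hak
            apply Subtype.ext
            have e1 : m * (a : G) * m⁻¹ = a := by
              rw [← Subgroup.mem_centralizer_iff.1 hc _ haP]; group
            rw [e1] at hme
            show (a : G) * k = k * a
            conv_lhs => rw [hme]
            group
          · have e1 : (k : G) * a * (k : G)⁻¹ = (a : G)⁻¹ := hme ▸ (h.not_mem_CP haP ha1 hc).1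
            apply hPK
            intro x hx
            -- `c = n⁻¹ k` centralizes `a`
            set c := n⁻¹ * (k : G) with hc'
            have hca : c ∈ Subgroup.centralizer ({(a : G)} : Set G) := by
              rw [Subgroup.mem_centralizer_singleton_iff]
              have e2 := h.inv _ haP
              rw [hc', ← mul_inv_eq_iff_eq_mul]
              calc n⁻¹ * (k : G) * a * (n⁻¹ * (k : G))⁻¹ = n⁻¹ * ((k : G) * a * (k : G)⁻¹) * n := by group
                _ = n⁻¹ * (n * a * n⁻¹) * n := by rw [e1, e2]
                _ = a := by group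
            obtain ⟨j, hidx, -⟩ := centralizer_core_index P h.comm hfrob haP ha1
            set H := Subgroup.centralizer ({(a : G)} : Set G)
            set R := pPrimeCore p ↥H
            have hxH : x ∈ H := le_centralizer_singleton P h.comm haP hx
            -- the commutator of `c` with `x` is a `p'`-element of `C(a)`
            have hcx : (⟨c, hca⟩ : ↥H) * ⟨x, hxH⟩ * (⟨c, hca⟩ : ↥H)⁻¹ * ⟨x, hxH⟩⁻¹ ∈ R := by
              have hker : R ≤ (QuotientGroup.mk' R).ker := (QuotientGroup.ker_mk' R).ge
              rw [← QuotientGroup.eq_one_iff]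
              obtain ⟨u, hu⟩ : ∃ u : ↥(P : Subgroup G), QuotientGroup.mk' R (Subgroup.inclusion
                  (le_centralizer_singleton P h.comm haP) u) = QuotientGroup.mk' R ⟨c, hca⟩ := by
                have hsur := CfsgLib.Transfer.sylow_sup_eq_top
                  (P.subtype (le_centralizer_singleton P h.comm haP)) R
                  (IsPGroup.of_card (n := j) (by rw [← hidx]; rfl))
                have hmem : (⟨c, hca⟩ : ↥H) ∈
                    ((P.subtype (le_centralizer_singleton P h.comm haP) : Sylow p H) : Subgroup H) ⊔ R := by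
                  rw [hsur]; exact Subgroup.mem_top _
                rw [← SetLike.mem_coe, Subgroup.mul_normal, Set.mem_mul] at hmem
                obtain ⟨u, hu, r, hr, hur⟩ := hmem
                refine ⟨⟨(u : G), hu⟩, ?_⟩
                rw [← hur, map_mul, (QuotientGroup.eq_one_iff r).2 hr |> fun e =>
                  (show QuotientGroup.mk' R r = 1 from e), mul_one]
                rfl
              show QuotientGroup.mk' R _ = 1
              rw [map_mul, map_mul, map_mul, map_inv, map_inv, ← hu]
              simp only [← map_inv (QuotientGroup.mk' R), ← map_mul (QuotientGroup.mk' R)]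
              rw [show Subgroup.inclusion (le_centralizer_singleton P h.comm haP) u * ⟨x, hxH⟩ *
                (Subgroup.inclusion (le_centralizer_singleton P h.comm haP) u)⁻¹ * ⟨x, hxH⟩⁻¹ = 1 from
                Subtype.ext (by
                  show (u : G) * x * (u : G)⁻¹ * x⁻¹ = 1
                  rw [show (u : G) * x = x * u from congrArg Subtype.val (h.comm.is_comm.comm u ⟨x, hx⟩)]
                  group), map_one]
            -- its image modulo `K` is the image of `x⁻²`
            set π := QuotientGroup.mk' K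
            have hπk : π (k : G) = 1 := (QuotientGroup.eq_one_iff _).2 k.2
            have hπ : π (c * x * c⁻¹ * x⁻¹) = (π x)⁻¹ * (π x)⁻¹ := by
              have hπc : π c = (π n)⁻¹ := by rw [hc', map_mul, hπk, mul_one, map_inv]
              have hnx : (π n)⁻¹ * π x * π n = (π x)⁻¹ := by
                rw [← map_inv, ← map_mul, ← map_mul, ← map_inv]
                congr 1
                have e3 := h.inv x⁻¹ (inv_mem hx)
                rw [inv_inv] at e3
                conv_lhs => rw [← e3]
                group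
              rw [map_mul, map_mul, map_mul, map_inv, map_inv, hπc, inv_inv, hnx]
            have hord : (π x)⁻¹ * (π x)⁻¹ = 1 := by
              rw [← hπ]
              obtain ⟨i, hi⟩ := orderOf_mem_sylow hx
              have d1 : orderOf (π (c * x * c⁻¹ * x⁻¹)) ∣ p ^ i := by
                rw [hπ, ← hi]
                refine orderOf_dvd_of_pow_eq_one ?_
                rw [← map_inv, ← map_mul, ← map_pow, ((Commute.refl x⁻¹)).mul_pow, inv_pow,
                  pow_orderOf_eq_one, inv_one, one_mul, map_one]
              have d2 : orderOf (π (c * x * c⁻¹ * x⁻¹)) ∣ Nat.card R := by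
                refine (orderOf_map_dvd π _).trans ?_
                have := R.orderOf_dvd_natCard hcx
                rwa [← Subgroup.orderOf_coe] at this
              exact orderOf_eq_one_iff.1 (Nat.eq_one_of_dvd_coprimes
                ((hp.out.coprime_iff_not_dvd.2 CfsgLib.PCore.not_dvd_card_pPrimeCore).pow_left i) d1 d2)
            rw [← QuotientGroup.eq_one_iff]
            refine eq_one_of_inv_eq h.odd ?_ (mul_eq_one_iff_eq_inv.1 hord |>.trans (inv_inv _))
            obtain ⟨i, hi⟩ := orderOf_mem_sylow hx
            obtain ⟨i', -, hi'⟩ := (Nat.dvd_prime_pow hp.out).1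
              (hi ▸ orderOf_map_dvd π x : orderOf (π x) ∣ p ^ i)
            exact ⟨i', hi'⟩
        have hKp := hcompl K hK (CfsgLib.Transfer.hasNormalPComplement_of_normalizer_le Q hnorm)
        -- now `K` is a non-trivial normal `p`-subgroup, and its centralizer is `P`
        have hKP : K ≤ (P : Subgroup G) :=
          (CfsgLib.PCore.le_pCore hK hKp).trans (CfsgLib.PCore.pCore_le_sylow P)
        obtain ⟨y, hyK, hy1⟩ : ∃ y ∈ K, y ≠ 1 := by
          by_contra hc'
          push Not at hc'
          exact hKb ((Subgroup.eq_bot_iff_forall _).2 hc')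
        set Z := Subgroup.centralizer (K : Set G)
        haveI : Z.Normal := inferInstance
        have hZle : Z ≤ Subgroup.centralizer ({y} : Set G) := fun g hg =>
          Subgroup.mem_centralizer_singleton_iff.2 (Subgroup.mem_centralizer_iff.1 hg y hyK).symm
        obtain ⟨j, hidx, -⟩ := centralizer_core_index P h.comm hfrob (hKP hyK) hy1
        have hZc : HasNormalPComplement p ↥Z := by
          have hC : HasNormalPComplement p ↥(Subgroup.centralizer ({y} : Set G)) :=
            CfsgLib.Transfer.hasNormalPComplement_of_coprime _ CfsgLib.PCore.not_dvd_card_pPrimeCore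
              (IsPGroup.of_card (n := j) (by rw [← hidx]; rfl))
          exact CfsgLib.Transfer.hasNormalPComplement_of_injective (Subgroup.inclusion hZle)
            (Subgroup.inclusion_injective hZle) hC
        have hZp := hcompl Z inferInstance hZc
        refine hnormalP Z inferInstance (le_antisymm
          ((CfsgLib.PCore.le_pCore inferInstance hZp).trans (CfsgLib.PCore.pCore_le_sylow P))
          fun x hx => Subgroup.mem_centralizer_iff.2 fun z hz => congrArg Subtype.val
            (h.comm.is_comm.comm (⟨z, hKP hz⟩ : ↥(P : Subgroup G)) ⟨x, hx⟩))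
      rcases hdich K hKn hKb with hPK | hdone
      swap
      · exact hdone
      haveI := hKn
      let Q : Sylow p K := P.subtype hPK
      have hQmem : ∀ a : ↥K, a ∈ (Q : Subgroup K) ↔ (a : G) ∈ (P : Subgroup G) := fun a => Iff.rfl
      have hNQ : ∀ k : ↥K, k ∈ Subgroup.normalizer ((Q : Subgroup K) : Set K) → (k : G) ∈ NP P := by
        intro k hk
        refine Subgroup.mem_normalizer_iff.2 fun x => ⟨fun hx => ?_, fun hx => ?_⟩
        · exact (hQmem _).1 ((Subgroup.mem_normalizer_iff.1 hk ⟨x, hPK hx⟩).1 hx)
        · have hxK : x ∈ K := by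
            have h1 := mul_mem (mul_mem (inv_mem k.2) (hPK hx)) k.2
            simpa [mul_assoc] using h1
          exact (hQmem ⟨x, hxK⟩).1 ((Subgroup.mem_normalizer_iff.1 hk ⟨x, hxK⟩).2 hx)
      by_cases hburn : Subgroup.normalizer ((Q : Subgroup K) : Set K) ≤
          Subgroup.centralizer ((Q : Subgroup K) : Set K)
      · have hKp := hcompl K hKn (CfsgLib.Transfer.hasNormalPComplement_of_normalizer_le Q hburn)
        exact hnormalP K hKn (le_antisymm
          ((CfsgLib.PCore.le_pCore hKn hKp).trans (CfsgLib.PCore.pCore_le_sylow P)) hPK)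
      obtain ⟨k, hk, hkc⟩ := SetLike.not_le_iff_exists.1 hburn
      have hkCP : (k : G) ∉ CP P := fun hc => hkc (Subgroup.mem_centralizer_iff.2 fun a ha =>
        Subtype.ext (Subgroup.mem_centralizer_iff.1 hc (a : G) ha))
      have hkn : n⁻¹ * (k : G) ∈ CP P := (h.cases _ (hNQ k hk)).resolve_left hkCP
      have hQinv : Inverted Q k := by
        refine ⟨⟨⟨fun a b => Subtype.ext (Subtype.ext ?_)⟩⟩, h.odd, fun x hx => Subtype.ext ?_, ?_⟩
        · show ((a : K) : G) * ((b : K) : G) = ((b : K) : G) * ((a : K) : G)
          exact congrArg Subtype.val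
            (h.comm.is_comm.comm (⟨((a : K) : G), a.2⟩ : ↥(P : Subgroup G)) ⟨((b : K) : G), b.2⟩)
        · by_cases hx1 : (x : G) = 1
          · simp [show x = 1 from Subtype.ext hx1]
          · exact (h.not_mem_CP hx hx1 hkn).1
        · intro g hg
          rcases h.cases _ (hNQ g hg) with hc | hc
          · exact Or.inl (Subgroup.mem_centralizer_iff.2 fun a ha =>
              Subtype.ext (Subgroup.mem_centralizer_iff.1 hc (a : G) ha))
          · refine Or.inr (Subgroup.mem_centralizer_iff.2 fun a ha => Subtype.ext ?_)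
            have hkg : (k : G)⁻¹ * g ∈ CP P := by
              have e : (k : G)⁻¹ * g = (n⁻¹ * k)⁻¹ * (n⁻¹ * g) := by group
              rw [e]
              exact mul_mem (inv_mem hkn) hc
            exact Subgroup.mem_centralizer_iff.1 hkg (a : G) ha
      have hQnc : ¬ IsCyclic ↥(Q : Subgroup K) := fun hc => hnc
        ((Subgroup.subgroupOfEquivOfLe hPK).isCyclic.1 hc)
      have hKlt : Nat.card K ≤ N := by
        have : Nat.card K < Nat.card G := by
          refine lt_of_le_of_ne (Subgroup.card_le_card_group K) fun e => hKt ?_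
          exact Subgroup.eq_top_of_card_eq K e
        omega
      -- `O^p(K) = K`
      by_cases hKres : pResidual p K = ⊤
      · exact OddOrder.PLengthOne.of_normal_subgroup K
          (fun hd => P.not_dvd_index (hd.trans (Subgroup.index_dvd_of_le hPK)))
          (ih hKlt hQinv hQnc hKres)
      haveI := CfsgLib.Transfer.pResidual_characteristic (G := ↥K) (p := p)
      set R := (pResidual p K).map K.subtype with hR
      haveI : R.Normal := inferInstance
      by_cases hRb : R = ⊥
      · have hb : pResidual p K = ⊥ := (Subgroup.map_eq_bot_iff_of_injective _ K.subtype_injective).1 hRb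
        have hKp : IsPGroup p K := fun g => by
          obtain ⟨j, hj⟩ := CfsgLib.Transfer.exists_pow_mem_pResidual (p := p) g
          rw [hb, Subgroup.mem_bot] at hj
          exact ⟨j, hj⟩
        exact hnormalP K hKn (le_antisymm
          ((CfsgLib.PCore.le_pCore hKn hKp).trans (CfsgLib.PCore.pCore_le_sylow P)) hPK)
      rcases hdich R inferInstance hRb with hPR | hdone
      swap
      · exact hdone
      exfalso
      apply hKres
      refine CfsgLib.Transfer.eq_top_of_pResidual_le le_rfl fun hd => ?_
      refine Q.not_dvd_index (hd.trans (Subgroup.index_dvd_of_le ?_))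
      intro a ha
      obtain ⟨b, hb, hba⟩ := hPR ha
      rwa [show a = b from Subtype.ext hba.symm]

/-- Transfer when the automizer fixes something. -/
theorem exists_inverted {G : Type u} [Group G] [Finite G] {P : Sylow p G} (hodd : p ≠ 2)
    (hab : IsMulCommutative ↥(P : Subgroup G))
    (hidx : ((CP P).subgroupOf (NP P)).index = 2) (hres : pResidual p G = ⊤) :
    ∃ n, Inverted P n := by
  haveI := hab
  letI : CommGroup ↥(P : Subgroup G) :=
    { (inferInstance : Group ↥(P : Subgroup G)) with mul_comm := hab.is_comm.comm }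
  obtain ⟨n₀, hn₀⟩ := Subgroup.index_eq_two_iff.1 hidx
  simp only [Subgroup.mem_subgroupOf, Subgroup.coe_mul] at hn₀
  have hn₀C : (n₀ : G) ∉ CP P := by
    rcases hn₀ 1 with ⟨h1, h2⟩ | ⟨h1, h2⟩
    · simp at h2
    · simpa using h2
  set n : G := (n₀ : G)⁻¹
  have hnN : n ∈ NP P := inv_mem n₀.2
  have hcases : ∀ g ∈ NP P, g ∈ CP P ∨ g * (n₀ : G) ∈ CP P := fun g hg => by
    rcases hn₀ ⟨g, hg⟩ with ⟨h1, -⟩ | ⟨h1, -⟩
    · exact Or.inr h1
    · exact Or.inl h1
  have hn2 : (n₀ : G) * n₀ ∈ CP P := (hcases n₀ n₀.2).resolve_left hn₀C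
  set θ : ↥(P : Subgroup G) →* ↥(P : Subgroup G) :=
    ((P : Subgroup G).normalizerMonoidHom ⟨n, hnN⟩).toMonoidHom
  have hθv : ∀ a : ↥(P : Subgroup G), (θ a : G) = n * a * n⁻¹ := fun a => rfl
  have hθθ : ∀ a, θ (θ a) = a := fun a => Subtype.ext (by
    rw [hθv, hθv]
    have hm := Subgroup.mem_centralizer_iff.1 (inv_mem hn2) (a : G) a.2
    have e : n * n = ((n₀ : G) * n₀)⁻¹ := by simp [n, mul_inv_rev]
    calc n * (n * a * n⁻¹) * n⁻¹ = (n * n) * a * (n * n)⁻¹ := by group
      _ = a := by rw [e, ← hm]; group)
  let φ : ↥(P : Subgroup G) →* ↥(P : Subgroup G) := MonoidHom.id _ * θ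
  have hφ : ∀ a, φ a = a * θ a := fun a => rfl
  have hφθ : ∀ a, φ (θ a) = φ a := fun a => by rw [hφ, hφ, hθθ, mul_comm]
  have hinvφ : ∀ (g : G), g ∈ NP P → ∀ (a b : ↥(P : Subgroup G)), (b : G) = g * a * g⁻¹ → φ b = φ a := by
    intro g hg a b hb
    rcases hcases g hg with hc | hc
    · congr 1; apply Subtype.ext
      rw [hb, ← Subgroup.mem_centralizer_iff.1 hc (a : G) a.2]; group
    · have hb' : b = θ a := Subtype.ext (by
        rw [hb, hθv]
        have hm := Subgroup.mem_centralizer_iff.1 hc _ (θ a).2
        rw [hθv] at hm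
        calc g * (a : G) * g⁻¹ = g * (n₀ : G) * (n * a * n⁻¹) * (g * (n₀ : G))⁻¹ := by
              simp [n, mul_inv_rev, mul_assoc]
          _ = _ := by rw [← hm]; group)
      rw [hb', hφθ]
  by_cases hall : ∀ a, φ a = 1
  · refine ⟨n, hab, hodd, fun x hx => ?_, fun g hg => ?_⟩
    · have e := congrArg Subtype.val (eq_inv_of_mul_eq_one_right ((hφ ⟨x, hx⟩).symm.trans (hall _)))
      exact e
    · rcases hcases g hg with hc | hc
      · exact Or.inl hc
      · refine Or.inr ?_
        rw [show n⁻¹ = (n₀ : G) from inv_inv _]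
        have e : (n₀ : G) * g = (n₀ : G) * (g * n₀) * (n₀ : G)⁻¹ := by group
        rw [e]
        refine Subgroup.mem_centralizer_iff.2 fun z hz => ?_
        have hz' : (n₀ : G)⁻¹ * z * n₀ ∈ (P : Subgroup G) := by
          have := (Subgroup.mem_normalizer_iff.1 hnN z).1 hz
          simpa [n] using this
        have hm := Subgroup.mem_centralizer_iff.1 hc _ hz'
        calc z * ((n₀ : G) * (g * n₀) * (n₀ : G)⁻¹)
            = (n₀ : G) * (((n₀ : G)⁻¹ * z * n₀) * (g * n₀)) * (n₀ : G)⁻¹ := by group
          _ = _ := by rw [hm]; group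
  · exfalso
    push Not at hall
    obtain ⟨a₀, ha₀⟩ := hall
    have hfix : φ (φ a₀) = φ a₀ * φ a₀ := by
      conv_lhs => rw [hφ a₀, map_mul, hφθ]
    have hne : φ (φ a₀) ≠ 1 := by
      rw [hfix]
      intro e
      apply ha₀
      apply Subtype.ext
      refine eq_one_of_inv_eq hodd (orderOf_mem_sylow (φ a₀).2) ?_
      exact inv_eq_of_mul_eq_one_right (congrArg Subtype.val e)
    set b := φ a₀
    haveI : (P : Subgroup G).FiniteIndex := inferInstance
    have htr := CfsgLib.TwoGroups.transfer_eq_pow_of_controlled φ (b : G) b.2 (fun k a ha => by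
      obtain ⟨m, hm, hme⟩ := fusion P hab (x := (b : G) ^ k) (Subgroup.pow_mem _ b.2 k) (g := a⁻¹)
        (by rwa [inv_inv])
      rw [inv_inv] at hme
      rw [hinvφ m hm (b ^ k) ⟨_, ha⟩ hme.symm, map_pow])
    have hker := CfsgLib.Transfer.pResidual_le_ker (p := p) P.2 (MonoidHom.transfer φ)
    rw [hres] at hker
    rw [MonoidHom.mem_ker.1 (hker (Subgroup.mem_top (b : G)))] at htr
    obtain ⟨j, hj⟩ := IsPGroup.iff_orderOf.1 P.2 (φ b)
    refine hne (orderOf_eq_one_iff.1 (Nat.eq_one_of_dvd_coprimes
      ((hp.out.coprime_iff_not_dvd.2 P.not_dvd_index).pow_left j) (dvd_of_eq hj)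
      (orderOf_dvd_of_pow_eq_one htr.symm)))

end CfsgLib.SmithTyrer
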